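import Groth.Agent.L19.Ass.Basic
import Groth.Agent.L16.QcqsPush
import Groth.Agent.L16.CohKernel
import Groth.Agent.L16.Rees.RelVanish
import Groth.Agent.L04.KSix.NearStalk
import Groth.Agent.L07.AssRestrict
import Groth.Agent.L18.IdealModule
import Groth.Agent.L03.Euler.Dim
import Groth.Prelude.Def_ShStab

/-!
# Purity through the dimensions of associated points
-/

set_option autoImplicit false
set_option linter.style.haveILetI false
set_option backward.isDefEq.respectTransparency false
set_option backward.isDefEq.respectTransparency.types false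

universe u

open CategoryTheory CategoryTheory.Limits AlgebraicGeometry TopologicalSpace Opposite

noncomputable section

namespace Groth.L11.Lemma179

open Groth.L18.Frame (rs)
open Groth.L03.Euler (topologicalKrullDim_set_mono exists_point_dim_closure_ge)

variable {X : Scheme.{u}}

/-- Every associated point has closure of dimension `d`. -/
def AssDim (F : X.Modules) (d : ℕ) : Prop :=
  ∀ x, Curv2.IsAssPoint F x → topologicalKrullDim (closure ({x} : Set X)) = (d : WithBot ℕ∞)

theorem sub_isAssPoint {K F : X.Modules} (ι : K ⟶ F) [Mono ι] {x : X} (h : Curv2.IsAssPoint K x) :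
    Curv2.IsAssPoint F x := by
  haveI : Mono ((Groth.L00.Stk.F X x).map ι) := inferInstance
  exact associatedPrimes.subset_of_injective
    (f := ((Groth.L00.Stk.F X x).map ι).hom) ((ModuleCat.mono_iff_injective _).1 inferInstance) h

theorem mem_support_of_isAssPoint {F : X.Modules} {x : X} (h : Curv2.IsAssPoint F x) :
    x ∈ CohB1.support F := by
  intro hs
  haveI : Subsingleton (F.presheaf.stalk x) := hs
  obtain ⟨p, hp⟩ : ∃ p, p ∈ associatedPrimes (X.presheaf.stalk x) (F.presheaf.stalk x) := ⟨_, h⟩
  rw [associatedPrimes.eq_empty_of_subsingleton] at hp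
  exact hp

variable [AlgebraicGeometry.IsNoetherian X] {F : X.Modules} {d : ℕ}

omit [AlgebraicGeometry.IsNoetherian X] in
theorem injective_app_of_mono {A B : X.Modules} (η : A ⟶ B) [Mono η] (V : X.Opens) :
    Function.Injective (η.app V) :=
  (Groth.L17.BC.Cochains.exact_left (ShortComplex.exact_cokernel η) V).1

omit [AlgebraicGeometry.IsNoetherian X] in
theorem unit_eq_zero_of_res (W V : X.Opens) (s : Γ(F, V)) (hs : rs F (inf_le_left : V ⊓ W ≤ V) s = 0) :
    ((Groth.L04.KSix.prη W).app F).app V s = 0 := by
  have hle : W.ι ''ᵁ (W.ι ⁻¹ᵁ V) ≤ V ⊓ W := le_inf (W.ι.image_preimage_le V) (W.ι_image_le _)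
  show F.presheaf.map (homOfLE (W.ι.image_preimage_le V)).op s = 0
  rw [show (homOfLE (W.ι.image_preimage_le V)).op = (homOfLE (inf_le_left : V ⊓ W ≤ V)).op ≫ (homOfLE hle).op from
    Subsingleton.elim _ _, Functor.map_comp]
  show F.presheaf.map (homOfLE hle).op (rs F (inf_le_left : V ⊓ W ≤ V) s) = 0
  rw [hs, map_zero]

/-- An associated point outside an open gives sections vanishing on the open. -/
theorem mem_of_mono_unit [Coh.IsQCoh F] (W : X.Opens) [Mono ((Groth.L04.KSix.prη W).app F)]
    {x : X} (hx : Curv2.IsAssPoint F x) : x ∈ W := by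
  refine (Groth.L19.Ass.subset_iff F W).2 (fun V _ s hs => ?_) hx
  exact injective_app_of_mono ((Groth.L04.KSix.prη W).app F) V
    ((unit_eq_zero_of_res W V s hs).trans (map_zero (((Groth.L04.KSix.prη W).app F).app V).hom).symm)

omit [AlgebraicGeometry.IsNoetherian X] in
theorem notMem_support_kernel_unit (W : X.Opens) {y : X} (hy : y ∈ W) :
    y ∉ CohB1.support (kernel ((Groth.L04.KSix.prη W).app F)) := by
  intro hs
  let η := (Groth.L04.KSix.prη W).app F
  haveI := Groth.L04.KSix.isIso_stalk_η (W := W) (x := y) hy F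
  haveI : IsIso ((Groth.L00.Stk.F X y).map η) := this
  haveI : Mono ((Groth.L00.Stk.F X y).map (kernel.ι η)) := inferInstance
  have hz : IsZero ((Groth.L00.Stk.F X y).obj (kernel η)) := by
    refine IsZero.of_mono_eq_zero ((Groth.L00.Stk.F X y).map (kernel.ι η)) ?_
    rw [← cancel_mono ((Groth.L00.Stk.F X y).map η), ← Functor.map_comp, kernel.condition, Functor.map_zero,
      Limits.zero_comp]
  exact hs (ModuleCat.subsingleton_of_isZero hz)

/-- A submodule supported on the closure of an associated point. -/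
theorem exists_sub_of_ass (hF : Coh.IsCoh F) {x : X} (hx : Curv2.IsAssPoint F x) :
    ∃ (K : X.Modules) (ι : K ⟶ F), Mono ι ∧ Coh.IsCoh K ∧ ¬ IsZero K ∧
      CohB1.support K ⊆ closure ({x} : Set X) := by
  haveI : Coh.IsQCoh F := hF.1
  let W : X.Opens := ⟨(closure ({x} : Set X))ᶜ, isClosed_closure.isOpen_compl⟩
  let η : F ⟶ (Groth.L04.KSix.pr W).obj F := (Groth.L04.KSix.prη W).app F
  haveI hP : Coh.IsQCoh ((Groth.L04.KSix.pr W).obj F) :=
    Groth.L16.QcqsPush.isQCoh_push (M := (Scheme.Modules.restrictFunctor W.ι).obj F) W.ι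
  haveI : Coh.IsQCoh (kernel η) := Groth.L18.IdealModule.isQCoh_kernel η
  refine ⟨kernel η, kernel.ι η, inferInstance, Groth.L16.Rees.RelVanish.isCoh_of_mono (kernel.ι η) hF, fun hz => ?_,
    fun y hy => ?_⟩
  · haveI : Mono η := Preadditive.mono_of_isZero_kernel η hz
    exact (mem_of_mono_unit W hx) (subset_closure rfl)
  · by_contra hyx
    exact notMem_support_kernel_unit W (y := y) hyx hy

/-- The associated points of a pure module have closures of the full dimension. -/
theorem assDim_of_isPure (hF : Coh.IsCoh F) (hp : ShStab.IsPure X F d) : AssDim F d := by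
  intro x hx
  have hsx : x ∈ CohB1.support F := mem_support_of_isAssPoint hx
  have h0 : ¬ IsZero F := fun h => by
    rw [(Groth.L21.Mod.isZero_iff_support_eq_empty F).1 h] at hsx
    exact hsx
  refine le_antisymm ?_ ?_
  · rw [← hp F (𝟙 F) inferInstance hF h0]
    exact topologicalKrullDim_set_mono (closure_minimal (Set.singleton_subset_iff.2 hsx)
      (Groth.L16.CohSupport.isClosed_support F hF.2))
  · obtain ⟨K, ι, hι, hK, hK0, hs⟩ := exists_sub_of_ass hF hx
    haveI := hι
    rw [← hp K ι hι hK hK0]
    exact topologicalKrullDim_set_mono hs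

/-- Modules with such associated points have support of dimension at most `d`. -/
theorem dim_le_of_assDim (hF : Coh.IsCoh F) (h : AssDim F d) :
    topologicalKrullDim (CohB1.support F) ≤ (d : WithBot ℕ∞) := by
  haveI : Coh.IsQCoh F := hF.1
  refine le_of_not_gt fun hlt => ?_
  have h1 : ((d + 1 : ℕ) : WithBot ℕ∞) ≤ topologicalKrullDim (CohB1.support F) := by
    generalize topologicalKrullDim (CohB1.support F) = D at hlt
    induction D using WithBot.recBotCoe with
    | bot => exact absurd hlt (by simp)
    | coe D =>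
      have h2 : (d : ℕ∞) < D := WithBot.coe_lt_coe.1 hlt
      have h3 := Order.add_one_le_of_lt h2
      show ((((d + 1 : ℕ) : ℕ∞)) : WithBot ℕ∞) ≤ (D : WithBot ℕ∞)
      exact WithBot.coe_le_coe.2 (by exact_mod_cast h3)
  obtain ⟨w, hw, hwd⟩ := exists_point_dim_closure_ge (Groth.L16.CohSupport.isClosed_support F hF.2) h1
  obtain ⟨a, ha, haw⟩ := Groth.L07.AssTensor.exists_ass_specializes F hw
  have h4 := hwd.trans (topologicalKrullDim_set_mono (specializes_iff_closure_subset.1 haw))
  rw [h a ha] at h4
  exact absurd (show d + 1 ≤ d by exact_mod_cast h4) (by omega)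

/-- The converse. -/
theorem isPure_of_assDim (hF : Coh.IsCoh F) (h : AssDim F d) : ShStab.IsPure X F d := by
  intro K ι hι hK h0
  haveI := hι
  haveI : Coh.IsQCoh K := hK.1
  refine le_antisymm ((topologicalKrullDim_set_mono (Groth.L21.Mod.support_mono ι)).trans (dim_le_of_assDim hF h)) ?_
  obtain ⟨w, hw⟩ : (CohB1.support K).Nonempty := by
    rw [Set.nonempty_iff_ne_empty]
    exact fun h' => h0 ((Groth.L21.Mod.isZero_iff_support_eq_empty K).2 h')
  obtain ⟨a, ha, -⟩ := Groth.L07.AssTensor.exists_ass_specializes K hw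
  rw [← h a (sub_isAssPoint ι ha)]
  exact topologicalKrullDim_set_mono (closure_minimal
    (Set.singleton_subset_iff.2 (mem_support_of_isAssPoint ha)) (Groth.L16.CohSupport.isClosed_support K hK.2))

theorem isPure_iff_assDim (hF : Coh.IsCoh F) : ShStab.IsPure X F d ↔ AssDim F d :=
  ⟨assDim_of_isPure hF, isPure_of_assDim hF⟩

end Groth.L11.Lemma179
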