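import Groth.Agent.L11.Lemma179.Finite
import Groth.Agent.L22.Inter.Fga
import Groth.Agent.L15.WeakAss
import Groth.Agent.S1709

/-!
# Transport between a projective scheme and projective space
-/

set_option autoImplicit false
set_option linter.style.haveILetI false
set_option linter.unusedSectionVars false
set_option backward.isDefEq.respectTransparency false
set_option backward.isDefEq.respectTransparency.types false

universe u

open CategoryTheory CategoryTheory.Limits AlgebraicGeometry TopologicalSpace Opposite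

noncomputable section

namespace Groth.L11.Lemma179

open Groth.L22.Reg Groth.L16
open Groth.L00.Tensor (tensorRightF tensorIso tensorPowIso)
open Groth.L11.Slope (D1)

theorem assDim_iso {Y : Scheme.{u}} {F G : Y.Modules} (e : F ≅ G) {d : ℕ} (h : AssDim F d) : AssDim G d :=
  fun x hx => h x (sub_isAssPoint e.inv hx)

variable {k : Type u} [Field k] {n : ℕ} {X : Scheme.{u}}

theorem assDim_tw {F : (CohB1.ProjSpace n k).Modules} {d : ℕ} (h : AssDim F d) (j : ℤ) : AssDim (tw' F j) d :=
  fun x hx => h x ((Groth.L22.EnrSev.isAssPoint_tensor_iff (ProjTwist.isInvertible_twistProjSpace n k j) F x).1 hx)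

variable (i : X ⟶ CohB1.ProjSpace n k) [IsClosedImmersion i]

theorem assDim_push {F : X.Modules} (hF : Coh.IsCoh F) {d : ℕ} (h : AssDim F d) :
    AssDim ((Coh.push i).obj F) d := by
  haveI := isLocallyNoetherian_closed i
  intro y hy
  obtain ⟨x, hx, rfl⟩ : y ∈ (fun x => i x) '' {x : ↥X | Curv2.IsAssPoint F x} :=
    (Groth.Agent.S1709.result i F hF.1).1.symm ▸ hy
  have he : closure ({i x} : Set (CohB1.ProjSpace n k)) = (fun z => i z) '' closure ({x} : Set X) := by
    rw [← i.isClosedEmbedding.closure_image_eq, Set.image_singleton]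
  rw [he, ← (i.isClosedEmbedding.isEmbedding.homeomorphImage (closure ({x} : Set X))).isHomeomorph.topologicalKrullDim_eq]
  exact h x hx

theorem nonempty_twist_pow (L : X.Modules) (r : ℕ)
    (hL : Nonempty (CohB1.tensorPow L r ≅ (Scheme.Modules.pullback i).obj (Twist.twistProjSpace n k 1)))
    (M : X.Modules) (t : ℕ) :
    Nonempty (ShStab.twist X L M (r * t) ≅ Pic13.twistOn k i M (t : ℤ)) := by
  obtain ⟨e⟩ := nonempty_twist_twistOn i (CohB1.tensorPow L r) hL M t
  exact ⟨tensorIso (Iso.refl M) (Groth.L00.Tensor.tensorPowMul L r t).symm ≪≫ e⟩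

variable [X.Over (Spec (CommRingCat.of k))] (hi : i ≫ CohB1.ProjSpace.toSpec n k = X ↘ Spec (CommRingCat.of k))

include hi in
theorem isProper_of_closed : IsProper (X ↘ Spec (CommRingCat.of k)) := by
  haveI := isProper_over_proj (k := k) (n := n)
  rw [← hi]
  exact inferInstanceAs (IsProper (i ≫ (CohB1.ProjSpace n k ↘ Spec (CommRingCat.of k))))

include hi in
/-- The Euler characteristics of a push-forward from a Hilbert polynomial. -/
theorem chiP_push_eval {L : X.Modules} {r : ℕ}
    (hL : Nonempty (CohB1.tensorPow L r ≅ (Scheme.Modules.pullback i).obj (Twist.twistProjSpace n k 1)))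
    {G : X.Modules} (hG : Coh.IsCoh G) {p : Polynomial ℚ} (hp : ShStab.IsHilbPoly k X L G p) (t : ℤ) :
    (chiP ((Coh.push i).obj G) t : ℚ) = (p.comp (Polynomial.C (r : ℚ) * Polynomial.X)).eval (t : ℚ) := by
  refine chiP_eq_eval (isCoh_push_closed i hG) (fun j => ?_) t
  obtain ⟨e⟩ := nonempty_twist_pow i L r hL G j
  rw [chiP_push i hi hG, ← Groth.L03.Euler.euler_iso (k := k) e, hp (r * j)]
  simp [Polynomial.eval_comp, Polynomial.eval_mul]

include hi in
theorem eulerCharLE_twistOn {G : X.Modules} (hG : Coh.IsCoh G) (t : ℤ) :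
    FGA.eulerCharLE k X (Pic13.twistOn k i G t) n = chiP ((Coh.push i).obj G) t := by
  haveI := isProper_of_closed i hi
  haveI := Groth.L21.RR.isNoetherian_of_proper (X := X) k
  rw [chiP_push i hi hG, Groth.L22.Inter.eulerCharLE_eq k (d := n)]
  exact i.isClosedEmbedding.isInducing.topologicalKrullDim_le.trans
    (Groth.L16.ProjSpace.topologicalKrullDim_eq_of_field n k).le

/-- Twists of push-forwards form short exact sequences. -/
theorem shortExact_push_tw {S : ShortComplex X.Modules} (hS : S.ShortExact) (m : ℤ) :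
    ((S.map (Coh.push i)).map (tensorRightF (O' n k m))).ShortExact :=
  shortExact_tw (shortExact_push i hS) m

/-- Kernels of quotients of a fixed regular module with given Euler characteristics are uniformly regular. -/
theorem exists_sub_regular (n b : ℕ) (k : Type u) [Field k] (B : (CohB1.ProjSpace n k).Modules)
    (hB : Coh.IsCoh B) (η : FM n k b ⟶ B) [Epi η] (S : Finset (Polynomial ℚ)) :
    ∃ M : ℕ, ∀ (C : ShortComplex (CohB1.ProjSpace n k).Modules), C.ShortExact → (C.X₂ = B) →
      Coh.IsCoh C.X₃ → (∃ P ∈ S, ∀ t : ℤ, (chiP C.X₃ t : ℚ) = P.eval (t : ℚ)) → Regular C.X₁ (M : ℤ) := by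
  choose Ms hMs using fun P : Polynomial ℚ => exists_kernel_bound.{u} n b P
  haveI := isProper_over_proj (k := k) (n := n)
  haveI := Groth.L11.Slope.noetherian_proj (k := k) (n := n)
  obtain ⟨l, hl⟩ := exists_regular (CohKernel.isCoh_kernel_cokernel (isCoh_freeMod b) hB η).1
  refine ⟨max l (S.sup Ms), fun C hC h2 h3 hP => ?_⟩
  obtain ⟨P, hPS, hP⟩ := hP
  subst h2
  haveI := hC.epi_g
  haveI : Mono C.f := hC.mono_f
  have hle : Ms P ≤ S.sup Ms := Finset.le_sup (f := Ms) hPS
  have hH : Regular (kernel (η ≫ C.g)) ((max l (S.sup Ms) : ℕ) : ℤ) :=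
    (hMs P k C.X₃ (η ≫ C.g) h3 inferInstance fun j => by rw [hP (j : ℤ)]; norm_cast).of_le (by omega)
  exact regular_iso (IsLimit.conePointUniqueUpToIso (kernelIsKernel C.g) hC.fIsKernel)
    (regular_comp η C.g (regular_FM b (by omega)) hH (hl.of_le (by omega))).2

end Groth.L11.Lemma179
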