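import Groth.Agent.L11.Lemma179.Diff

/-!
# Lower bounds for Euler characteristics of quotients of free modules
-/

set_option autoImplicit false
set_option linter.style.haveILetI false
set_option linter.unusedSectionVars false
set_option backward.isDefEq.respectTransparency false
set_option backward.isDefEq.respectTransparency.types false

universe u

open CategoryTheory CategoryTheory.Limits AlgebraicGeometry TopologicalSpace Opposite

noncomputable section

namespace Groth.L11.Lemma179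

open Groth.L22.Reg Groth.L16
open Groth.L00.Tensor (tensorRightF tensorIso)
open Groth.L16.CohLinear (hmap hmap_comp exact_hmap_hmap exact_hmap_delta exact_delta_hmap)
open Groth.L11.Slope (D1)

variable {k : Type u} [Field k] {n : ℕ}

/-- Quotients of a free module with hyperplane section of given Hilbert polynomial. -/
theorem exists_section_bound (n b : ℕ) (P : Polynomial ℚ) : ∃ M : ℕ, ∀ (k : Type u) [Field k]
    (Q : (CohB1.ProjSpace n k).Modules) (q : FM n k b ⟶ Q) [Epi q]
    (ι : CohB1.tensorMod Q (Twist.twistProjSpace n k (-1)) ⟶ Q) [Mono ι], Coh.IsCoh Q →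
    (∀ j : ℕ, (chiP (cokernel ι) (j : ℤ) : ℚ) = P.eval (j : ℚ)) →
      Regular (cokernel ι) (M : ℤ) ∧ ∀ t : ℤ, (M : ℤ) ≤ t + 1 → ∀ i : ℕ, 1 ≤ i →
        Subsingleton (Coh.HH (CohB1.ProjSpace n k) (tw' Q t) i) := by
  obtain ⟨M, hM⟩ := exists_kernel_bound.{u} n b P
  refine ⟨M, fun k _ Q q _ ι _ hQ hP => ?_⟩
  haveI := hQ.1
  haveI := isProper_over_proj (k := k) (n := n)
  haveI := Groth.L11.Slope.noetherian_proj (k := k) (n := n)
  let φ := q ≫ cokernel.π ι
  have hT : Coh.IsCoh (cokernel ι) := (CohKernel.isCoh_kernel_cokernel (isCoh_tw hQ (-1)) hQ ι).2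
  have hK : Regular (kernel φ) (M : ℤ) := hM k (cokernel ι) φ hT inferInstance hP
  let S := ShortComplex.mk (kernel.ι φ) φ (kernel.condition φ)
  have hS : S.ShortExact := { exact := ShortComplex.exact_kernel φ, epi_g := inferInstanceAs (Epi φ) }
  have hR : Regular (cokernel ι) (M : ℤ) :=
    Regular.of_middle_right (S := S) hS (regular_FM b (by omega)) (hK.of_le (by omega))
  refine ⟨hR, fun t ht i hi => ?_⟩
  rcases (show i = 1 ∨ 2 ≤ i by omega) with rfl | hi2
  · refine subsingleton_of_bound (ι := ι) hQ le_rfl fun s hs z hz => ?_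
    obtain ⟨y, rfl⟩ := (exact_delta_hmap (hypTw_shortExact ι s) 0 z).1 hz
    have hk : Subsingleton (Coh.HH _ (S.map (tensorRightF (O' n k s))).X₁ 1) :=
      hK.subsingleton le_rfl (by omega)
    obtain ⟨w, hw⟩ := (exact_hmap_delta (shortExact_tw hS s) 0 y).1 (Subsingleton.elim _ _)
    have he : (S.map (tensorRightF (O' n k s))).g = (tensorRightF (O' n k s)).map q ≫ (hypTw ι s).g := by
      show (tensorRightF (O' n k s)).map (q ≫ cokernel.π ι) = _
      rw [Functor.map_comp]
      rfl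
    have hy : y = hmap (hypTw ι s).g 0 (hmap ((tensorRightF (O' n k s)).map q) 0 w) := by
      refine hw.symm.trans ?_
      exact (congrArg (fun f => hmap f 0 w) he).trans (hmap_comp _ _ _ _)
    subst hy
    exact ((exact_hmap_delta (hypTw_shortExact ι s) 0) _).2 ⟨_, rfl⟩
  · exact subsingleton_ge_two ι hQ hR hi2 (by omega)

theorem chiP_eq_h0t {F : (CohB1.ProjSpace n k).Modules} {t : ℤ}
    (h : ∀ i : ℕ, 1 ≤ i → Subsingleton (Coh.HH (CohB1.ProjSpace n k) (tw' F t) i)) :
    chiP F t = (h0t F t : ℤ) := by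
  haveI := h 1 le_rfl
  rw [chiP_eq_sub (fun i hi => h i (by omega)), h1_def, Module.finrank_zero_of_subsingleton]
  simp

/-- A form avoiding the associated points and the top-dimensional points. -/
theorem exists_general_form [Infinite k] {Q : (CohB1.ProjSpace n k).Modules} (hQ : Coh.IsCoh Q) {e : ℕ}
    (hd : topologicalKrullDim (CohB1.support Q) ≤ ((e + 1 : ℕ) : WithBot ℕ∞)) :
    ∃ ℓ : Form n k, Mono (mu (sigmaF ℓ) Q) ∧
      topologicalKrullDim (CohB1.support (cokernel (mu (sigmaF ℓ) Q))) ≤ (e : WithBot ℕ∞) := by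
  haveI := isProper_over_proj (k := k) (n := n)
  haveI := Groth.L11.Slope.noetherian_proj (k := k) (n := n)
  haveI := hQ.1
  obtain ⟨ℓ, hℓ⟩ := exists_form_avoiding (n := n) (k := k)
    ((Groth.L22.EnrSev.finite_setOf_isAssPoint hQ.2).union
      (Groth.L22.Inter.finite_top (CohSupport.isClosed_support Q hQ.2) hd))
  exact ⟨ℓ, mono_mu_sigmaF hQ ℓ fun x hx => hℓ x (Or.inl hx),
    Groth.L11.Slope.dim_coker_le hQ hd ℓ fun x hx hxd => hℓ x (Or.inr ⟨hx, hxd⟩)⟩

/-- Quotients of a free module of bounded top coefficient have second coefficient bounded below. -/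
theorem exists_lower_bound (n b : ℕ) : ∀ (e : ℕ) (a : ℤ), ∃ ρ : ℕ, ∀ (k : Type u) [Field k] [Infinite k]
    (Q : (CohB1.ProjSpace n k).Modules) (q : FM n k b ⟶ Q) [Epi q], Coh.IsCoh Q →
    topologicalKrullDim (CohB1.support Q) ≤ ((e + 1 : ℕ) : WithBot ℕ∞) →
    D1^[e + 1] (chiP Q) 0 ≤ a → 0 ≤ D1^[e] (chiP Q) (ρ : ℤ) := by
  intro e
  induction e with
  | zero =>
    intro a
    choose M hM using fun c : ℕ => exists_section_bound.{u} n b (Polynomial.C ((c : ℕ) : ℚ))
    refine ⟨(Finset.range (a.toNat + 1)).sup M, fun k _ _ Q q _ hQ hd ha => ?_⟩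
    haveI := isProper_over_proj (k := k) (n := n)
    haveI := hQ.1
    obtain ⟨ℓ, hm, hTd⟩ := exists_general_form hQ hd
    let ι : CohB1.tensorMod Q (Twist.twistProjSpace n k (-1)) ⟶ Q := mu (sigmaF ℓ) Q
    haveI : Mono ι := hm
    have hT : Coh.IsCoh (cokernel ι) := (CohKernel.isCoh_kernel_cokernel (isCoh_tw hQ (-1)) hQ ι).2
    have h0 := (chiP_diff_top hT hTd).1
    obtain ⟨c, hc⟩ := Int.eq_ofNat_of_zero_le h0
    have hc' : D1^[1] (chiP Q) 0 = (c : ℤ) := (chiP_coker_diff hQ ι 0 0).symm.trans hc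
    obtain ⟨-, hvan⟩ := hM c k Q q ι hQ fun j => by
      rw [Polynomial.eval_C, show chiP (cokernel ι) (j : ℤ) = (c : ℤ) from
        (chiP_coker_diff hQ ι 0 j).trans ((chiP_diff_lin hQ hd j).2.trans hc')]
      norm_cast
    have ha' : D1^[1] (chiP Q) 0 ≤ a := ha
    have hle : M c ≤ (Finset.range (a.toNat + 1)).sup M :=
      Finset.le_sup (f := M) (Finset.mem_range.2 (by omega))
    show 0 ≤ chiP Q _
    rw [chiP_eq_h0t (hvan _ (by omega))]
    exact Int.natCast_nonneg _
  | succ e ih =>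
    intro a
    obtain ⟨ρ, hρ⟩ := ih a
    refine ⟨ρ, fun k _ _ Q q _ hQ hd ha => ?_⟩
    haveI := isProper_over_proj (k := k) (n := n)
    haveI := hQ.1
    obtain ⟨ℓ, hm, hTd⟩ := exists_general_form hQ hd
    let ι : CohB1.tensorMod Q (Twist.twistProjSpace n k (-1)) ⟶ Q := mu (sigmaF ℓ) Q
    haveI : Mono ι := hm
    have hT : Coh.IsCoh (cokernel ι) := (CohKernel.isCoh_kernel_cokernel (isCoh_tw hQ (-1)) hQ ι).2
    have h := hρ k (cokernel ι) (q ≫ cokernel.π ι) hT hTd (by rw [chiP_coker_diff hQ ι]; exact ha)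
    rwa [chiP_coker_diff hQ ι] at h

end Groth.L11.Lemma179
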