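import Groth.Agent.L11.Lemma179.Bad
import Groth.Agent.L11.Slope.Main

/-!
# General hyperplane sections of pure modules are pure
-/

set_option autoImplicit false
set_option linter.style.haveILetI false
set_option backward.isDefEq.respectTransparency false
set_option backward.isDefEq.respectTransparency.types false

universe u

open CategoryTheory CategoryTheory.Limits AlgebraicGeometry TopologicalSpace Opposite IsLocalRing

noncomputable section

namespace Groth.L11.Lemma179

section Algebra

variable {R : Type u} [CommRing R] [IsLocalRing R] [IsNoetherianRing R] {M : Type u} [AddCommGroup M] [Module R M]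

omit [IsNoetherianRing R] in
/-- Two elements regular on a module of depth at least two. -/
theorem exists_regular_pair (h : (2 : ℕ∞) ≤ LocCoh.depth R M)
    (htop : maximalIdeal R • (⊤ : Submodule R M) ≠ ⊤) :
    ∃ f ∈ maximalIdeal R, ∃ g ∈ maximalIdeal R, (∀ x : M, f • x = 0 → x = 0) ∧
      ∀ a b : M, g • a = f • b → ∃ c, a = f • c := by
  unfold LocCoh.depth LocCoh.idealDepth at h
  rw [if_neg htop] at h
  obtain ⟨rs, hrs⟩ := lt_iSup_iff.1 (lt_of_lt_of_le (show (1 : ℕ∞) < 2 by norm_num) h)
  obtain ⟨⟨hreg, hmem⟩, hlen⟩ := lt_iSup_iff.1 hrs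
  match rs, hreg, hmem, hlen with
  | [], _, _, hlen => simp at hlen
  | [r], _, _, hlen => simp at hlen
  | r :: r' :: rest, hreg, hmem, _ =>
    refine ⟨r, hmem r (by simp), r', hmem r' (by simp), fun x hx => ?_, fun a b hab => ?_⟩
    · rw [RingTheory.Sequence.isWeaklyRegular_cons_iff] at hreg
      exact hreg.1 (by simpa using hx : (fun y => r • y) x = (fun y => r • y) 0)
    · have h2 := hreg.regular_mod_prev 1 (by simp)
      have e : (Ideal.ofList ((r :: r' :: rest).take 1) • (⊤ : Submodule R M)) = Ideal.span {r} • ⊤ := by simp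
      have h3 : Submodule.Quotient.mk (p := Ideal.ofList ((r :: r' :: rest).take 1) • (⊤ : Submodule R M)) a = 0 := by
        refine h2 (show r' • Submodule.Quotient.mk a = r' • (0 : _) from ?_)
        rw [smul_zero, ← Submodule.Quotient.mk_smul, Submodule.Quotient.mk_eq_zero, e, hab]
        exact Submodule.smul_mem_smul (Ideal.mem_span_singleton_self r) trivial
      rw [Submodule.Quotient.mk_eq_zero, e, Submodule.ideal_span_singleton_smul] at h3
      obtain ⟨c, -, hc⟩ := Submodule.mem_smul_pointwise_iff_exists _ _ _ |>.1 h3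
      exact ⟨c, hc.symm⟩

/-- The cokernel of an injection of a module of depth two into itself has no section killed by the maximal ideal. -/
theorem not_isAssociatedPrime_of_depth [Module.Finite R M] {M' N : Type u} [AddCommGroup M'] [Module R M']
    [AddCommGroup N] [Module R N] (e : M' ≃ₗ[R] M) (ι : M' →ₗ[R] M) (hι : Function.Injective ι)
    (p : M →ₗ[R] N) (hp : Function.Surjective p) (hex : Function.Exact ι p)
    (h : (2 : ℕ∞) ≤ LocCoh.depth R M) : ¬ IsAssociatedPrime (maximalIdeal R) N := by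
  intro hass
  obtain ⟨-, n, hn⟩ := (isAssociatedPrime_iff (R := R)).1 hass
  have hn0 : n ≠ 0 := by
    rintro rfl
    have h1 : (1 : R) ∈ maximalIdeal R := hn.ge (Submodule.mem_colon_singleton.2 (by rw [smul_zero]; exact zero_mem _))
    exact (maximalIdeal.isMaximal R).ne_top ((Ideal.eq_top_iff_one _).2 h1)
  have hkill : ∀ r ∈ maximalIdeal R, r • n = 0 := fun r hr =>
    (Submodule.mem_bot R).1 (Submodule.mem_colon_singleton.1 (hn.le hr))
  obtain ⟨v, rfl⟩ := hp n
  have htop : maximalIdeal R • (⊤ : Submodule R M) ≠ ⊤ := fun htop => hn0 (by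
    have h0 := Submodule.eq_bot_of_le_smul_of_le_jacobson_bot (maximalIdeal R) (⊤ : Submodule R M)
      Module.Finite.fg_top htop.ge (maximalIdeal_le_jacobson _)
    rw [(Submodule.mem_bot R).1 (h0.le (Submodule.mem_top (x := v))), map_zero])
  obtain ⟨f, hf, g, hg, hfr, hgr⟩ := exists_regular_pair h htop
  obtain ⟨a, ha⟩ := (hex (f • v)).1 (by rw [map_smul, hkill f hf])
  obtain ⟨b, hb⟩ := (hex (g • v)).1 (by rw [map_smul, hkill g hg])
  have h1 : g • a = f • b := hι (by rw [map_smul, map_smul, ha, hb, smul_comm])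
  have h2 : g • e a = f • e b := by rw [← map_smul, ← map_smul, h1]
  obtain ⟨c, hc⟩ := hgr (e a) (e b) h2
  have h3 : a = f • e.symm c := by
    apply e.injective
    rw [map_smul, LinearEquiv.apply_symm_apply, hc]
  have h4 : v = ι (e.symm c) := by
    refine sub_eq_zero.1 (hfr _ ?_)
    rw [smul_sub, ← map_smul, ← h3, ha, sub_self]
  exact hn0 (by rw [h4]; exact hex.apply_apply_eq_zero _)

end Algebra

open Groth.L22.Reg Groth.L16
open Groth.L00.Tensor (tensorRightF)

variable {k : Type u} [Field k] {n : ℕ}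

theorem nat_of_dim_le {α : Type u} [TopologicalSpace α] {S : Set α} (hne : S.Nonempty) {e : ℕ}
    (h : topologicalKrullDim S ≤ (e : WithBot ℕ∞)) :
    ∃ c : ℕ, c ≤ e ∧ topologicalKrullDim S = (c : WithBot ℕ∞) := by
  have h0 : (0 : WithBot ℕ∞) ≤ topologicalKrullDim S := Groth.L03.Euler.zero_le_topologicalKrullDim hne
  generalize topologicalKrullDim S = T at h h0
  induction T using WithBot.recBotCoe with
  | bot => exact absurd h0 (by simp)
  | coe T =>
    have hT : T ≤ (e : ℕ∞) := WithBot.coe_le_coe.1 h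
    obtain ⟨c, rfl⟩ := ENat.ne_top_iff_exists.1 (ne_top_of_le_ne_top (ENat.coe_ne_top e) hT)
    exact ⟨c, by exact_mod_cast hT, rfl⟩

/-- The points a hyperplane must avoid. -/
def avoid (Q : (CohB1.ProjSpace n k).Modules) (e : ℕ) : Set (CohB1.ProjSpace n k) :=
  ({x | Curv2.IsAssPoint Q x} ∪
    {x | x ∈ CohB1.support Q ∧ topologicalKrullDim (closure ({x} : Set (CohB1.ProjSpace n k))) = ((e + 1 : ℕ) : WithBot ℕ∞)}) ∪
  ⋃ c ∈ Finset.range e, {x | x ∈ CohB1.support Q ∧
    LocCoh.depth ((CohB1.ProjSpace n k).presheaf.stalk x) (Q.presheaf.stalk x) ≤ 1 ∧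
    topologicalKrullDim (closure ({x} : Set (CohB1.ProjSpace n k))) = (c : WithBot ℕ∞)}

theorem finite_avoid {Q : (CohB1.ProjSpace n k).Modules} (hQ : Coh.IsCoh Q) {e : ℕ} (hA : AssDim Q (e + 1)) :
    (avoid Q e).Finite := by
  haveI := isProper_over_proj (k := k) (n := n)
  haveI := Groth.L11.Slope.noetherian_proj (k := k) (n := n)
  haveI : Coh.IsQCoh Q := hQ.1
  haveI : LocallyOfFinitePresentation (CohB1.ProjSpace n k ↘ Spec (CommRingCat.of k)) := inferInstance
  refine ((Groth.L22.EnrSev.finite_setOf_isAssPoint hQ.2).union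
    (Groth.L22.Inter.finite_top (CohSupport.isClosed_support Q hQ.2) (dim_le_of_assDim hQ hA))).union
    ((Finset.range e).finite_toSet.biUnion fun c hc =>
      finite_bad (CohB1.ProjSpace n k ↘ Spec (CommRingCat.of k)) hQ hA c ?_)
  have := Finset.mem_range.1 hc
  omega

/-- A hyperplane avoiding them cuts out a pure module. -/
theorem assDim_coker {Q : (CohB1.ProjSpace n k).Modules} (hQ : Coh.IsCoh Q) {e : ℕ} (hA : AssDim Q (e + 1))
    (ℓ : Form n k) (hℓ : ∀ x ∈ avoid Q e, x ∈ Proj.basicOpen (CohB1.polyGrading n k) ℓ.1) :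
    Mono (mu (sigmaF ℓ) Q) ∧ AssDim (cokernel (mu (sigmaF ℓ) Q)) e := by
  haveI := Groth.L11.Slope.noetherian_proj (k := k) (n := n)
  haveI hm : Mono (mu (sigmaF ℓ) Q) := mono_mu_sigmaF hQ ℓ fun x hx => hℓ x (Or.inl (Or.inl hx))
  refine ⟨hm, fun x hx => ?_⟩
  let ι := mu (sigmaF ℓ) Q
  haveI : Mono ι := hm
  have hdim := Groth.L11.Slope.dim_coker_le hQ (dim_le_of_assDim hQ hA) ℓ fun y hy hyd => hℓ y (Or.inl (Or.inr ⟨hy, hyd⟩))
  have hsx : x ∈ CohB1.support (cokernel ι) := mem_support_of_isAssPoint hx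
  have hsQ : x ∈ CohB1.support Q := Groth.L11.Slope.support_subset_of_epi (cokernel.π ι) hsx
  have hnot : x ∉ Proj.basicOpen (CohB1.polyGrading n k) ℓ.1 := fun hb => hsx (by
    refine subsingleton_of_forall_eq 0 fun v => ?_
    obtain ⟨w, hw⟩ := (Groth.L21.Mod.epi_iff_stalk_surjective (cokernel.π ι)).1 inferInstance x v
    obtain ⟨a, rfl⟩ := (bijective_mu x (sigmaF ℓ) (bijective_sigmaF ℓ hb) Q).2 w
    rw [← hw]
    show sm x (cokernel.π ι) (sm x ι a) = 0
    rw [← sm_comp, cokernel.condition, sm_zero])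
  have hdep : LocCoh.depth ((CohB1.ProjSpace n k).presheaf.stalk x) (Q.presheaf.stalk x) ≤ 1 := by
    by_contra hd
    haveI : Module.Finite ((CohB1.ProjSpace n k).presheaf.stalk x) (Q.presheaf.stalk x) :=
      Groth.L22.PDual.finite_stalk_of_isCoh hQ x
    obtain ⟨el⟩ := Groth.L03.Euler.nonempty_stalk_tensor (ProjTwist.isInvertible_twistProjSpace n k (-1)) Q x
    let F := Groth.L00.Stk.F (CohB1.ProjSpace n k) x
    have hinj : Function.Injective (F.map ι).hom := (ModuleCat.mono_iff_injective _).1 inferInstance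
    have hsur : Function.Surjective (F.map (cokernel.π ι)).hom := (ModuleCat.epi_iff_surjective _).1 inferInstance
    have hS : ((ShortComplex.mk ι (cokernel.π ι) (cokernel.condition ι)).map F).Exact :=
      (ShortComplex.exact_cokernel ι).map F
    exact not_isAssociatedPrime_of_depth (M := Q.presheaf.stalk x) el.symm (F.map ι).hom hinj (F.map (cokernel.π ι)).hom hsur
      ((ShortComplex.ShortExact.moduleCat_exact_iff_function_exact _).1 hS)
      (Order.add_one_le_of_lt (not_le.1 hd)) hx
  have hcl : topologicalKrullDim (closure ({x} : Set (CohB1.ProjSpace n k))) ≤ (e : WithBot ℕ∞) :=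
    (Groth.L03.Euler.topologicalKrullDim_set_mono (closure_minimal (Set.singleton_subset_iff.2 hsx)
      (CohSupport.isClosed_support (cokernel ι)
        (CohKernel.isCoh_kernel_cokernel (isCoh_tw hQ (-1)) hQ ι).2.2))).trans hdim
  obtain ⟨c, hce, hc⟩ := nat_of_dim_le (S := closure ({x} : Set (CohB1.ProjSpace n k))) ⟨x, subset_closure rfl⟩ hcl
  rcases hce.lt_or_eq with hlt | rfl
  · exact absurd (hℓ x (Or.inr (Set.mem_biUnion (Finset.mem_range.2 hlt) ⟨hsQ, hdep, hc⟩))) hnot
  · exact hc

end Groth.L11.Lemma179
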