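import Groth.Agent.L11.Lemma179.Sect
import Groth.Agent.L22.Reg.ClosedQuot
import Groth.Agent.L03.Euler.Hilb

/-!
# Differences of Euler characteristics on projective space
-/

set_option autoImplicit false
set_option linter.style.haveILetI false
set_option linter.unusedSectionVars false
set_option backward.isDefEq.respectTransparency false
set_option backward.isDefEq.respectTransparency.types false

universe u

open CategoryTheory CategoryTheory.Limits AlgebraicGeometry TopologicalSpace Opposite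

noncomputable section

namespace Groth.L11.Lemma179

open Groth.L22.Reg Groth.L16
open Groth.L00.Tensor (tensorRightF tensorIso)
open Groth.L11.Slope (D1 diff_poly isHilbPoly_O1)

theorem D1_iter_succ (f : ℤ → ℤ) (e : ℕ) (t : ℤ) :
    D1^[e + 1] f t = D1^[e] f t - D1^[e] f (t - 1) := by
  rw [Function.iterate_succ_apply']
  rfl

theorem D1_iter_shift (f : ℤ → ℤ) (j : ℤ) : ∀ (e : ℕ) (t : ℤ),
    D1^[e] (fun s => f (j + s)) t = D1^[e] f (j + t) := by
  intro e
  induction e with
  | zero => intro t; rfl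
  | succ e ih => intro t; rw [D1_iter_succ, D1_iter_succ, ih, ih, show j + (t - 1) = j + t - 1 by ring]

theorem D1_iter_add (f g : ℤ → ℤ) : ∀ (e : ℕ) (t : ℤ),
    D1^[e] (fun s => f s + g s) t = D1^[e] f t + D1^[e] g t := by
  intro e
  induction e with
  | zero => intro t; rfl
  | succ e ih => intro t; simp only [D1_iter_succ, ih]; ring

theorem D1_iter_lin {e : ℕ} {f : ℤ → ℤ} {P : Polynomial ℚ} (hP : P.natDegree ≤ e + 1)
    (hf : ∀ t : ℤ, (f t : ℚ) = P.eval (t : ℚ)) (t : ℤ) :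
    D1^[e] f t = D1^[e] f 0 + t * D1^[e + 1] f 0 ∧ D1^[e + 1] f t = D1^[e + 1] f 0 := by
  constructor
  · apply Int.cast_injective (α := ℚ)
    rw [D1_iter_succ]
    push_cast
    simp only [diff_poly e P hP f hf]
    push_cast
    ring
  · apply Int.cast_injective (α := ℚ)
    simp only [D1_iter_succ]
    push_cast
    simp only [diff_poly e P hP f hf]
    push_cast
    ring

variable {k : Type u} [Field k] {n : ℕ}

/-- The free module of rank `b`. -/
abbrev FM (n : ℕ) (k : Type u) [Field k] (b : ℕ) : (CohB1.ProjSpace n k).Modules :=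
  FlatMod.freeMod (CohB1.ProjSpace n k) b

theorem regular_FM (b : ℕ) {m : ℤ} (hm : 0 ≤ m) : Regular (FM n k b) m :=
  regular_iso (freeModIso k n b).symm (regular_sigma_twist b (by omega))

theorem chiP_iso {A B : (CohB1.ProjSpace n k).Modules} (e : A ≅ B) (t : ℤ) : chiP A t = chiP B t := by
  rw [chiP_def, chiP_def]
  exact Groth.L03.Euler.euler_iso ((tensorRightF (O' n k t)).mapIso e)

theorem chiP_tw (A : (CohB1.ProjSpace n k).Modules) (j t : ℤ) : chiP (tw' A j) t = chiP A (j + t) := by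
  obtain ⟨e⟩ := nonempty_tw_tw A (show j + t = j + t from rfl)
  rw [chiP_eq, chiP_eq, Groth.L03.Euler.euler_iso (k := k) e]

theorem dim_supp_le_n (F : (CohB1.ProjSpace n k).Modules) :
    topologicalKrullDim (CohB1.support F) ≤ (n : WithBot ℕ∞) :=
  (topologicalKrullDim_subspace_le _ _).trans (Groth.L16.ProjSpace.topologicalKrullDim_eq_of_field n k).le

theorem exists_chiP_poly {F : (CohB1.ProjSpace n k).Modules} (hF : Coh.IsCoh F) {d : ℕ}
    (h : topologicalKrullDim (CohB1.support F) ≤ (d : WithBot ℕ∞)) :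
    ∃ P : Polynomial ℚ, P.natDegree ≤ d ∧ ∀ t : ℤ, (chiP F t : ℚ) = P.eval (t : ℚ) := by
  haveI := isProper_over_proj (k := k) (n := n)
  obtain ⟨P, hd, hP⟩ := Groth.L03.Euler.exists_isHilbPoly (k := k)
    (ProjTwist.isInvertible_twistProjSpace n k 1) hF h
  refine ⟨P, hd, chiP_eq_eval hF fun j => ?_⟩
  obtain ⟨e⟩ := nonempty_O_one_pow n k j
  rw [chiP_eq, ← Groth.L03.Euler.euler_iso (k := k)
    (show ShStab.twist (CohB1.ProjSpace n k) (O' n k 1) F j ≅ tw' F (j : ℤ) from tensorIso (Iso.refl F) e)]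
  exact hP j

theorem isAmple_O1' : CohB1.IsAmple (O' n k 1) := by
  obtain ⟨ε⟩ : Nonempty (Groth.L18.PUP.O1 n k ≅ Twist.twistProjSpace n k 1) := ⟨Iso.refl _⟩
  exact Groth.L18.Ample.isAmple_of_iso ε (Groth.L22.VeryAmple.isAmple_O1 n k)

theorem chiP_diff_lin {F : (CohB1.ProjSpace n k).Modules} (hF : Coh.IsCoh F) {e : ℕ}
    (h : topologicalKrullDim (CohB1.support F) ≤ ((e + 1 : ℕ) : WithBot ℕ∞)) (t : ℤ) :
    D1^[e] (chiP F) t = D1^[e] (chiP F) 0 + t * D1^[e + 1] (chiP F) 0 ∧
      D1^[e + 1] (chiP F) t = D1^[e + 1] (chiP F) 0 := by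
  obtain ⟨P, hd, hP⟩ := exists_chiP_poly hF h
  exact D1_iter_lin hd hP t

theorem chiP_diff_top {F : (CohB1.ProjSpace n k).Modules} (hF : Coh.IsCoh F) {e : ℕ}
    (h : topologicalKrullDim (CohB1.support F) ≤ (e : WithBot ℕ∞)) :
    0 ≤ D1^[e] (chiP F) 0 ∧
      (topologicalKrullDim (CohB1.support F) = (e : WithBot ℕ∞) → 0 < D1^[e] (chiP F) 0) := by
  haveI := isProper_over_proj (k := k) (n := n)
  obtain ⟨P, hd, hP⟩ := exists_chiP_poly hF h
  have hH := isHilbPoly_O1 (E := F) (P := P) fun m => by rw [← chiP_eq]; exact hP m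
  obtain ⟨h1, h2⟩ := Groth.L03.Euler.posAt (k := k) (isAmple_O1' (n := n)) e F hF h P hH
  have hq : ((D1^[e] (chiP F) 0 : ℤ) : ℚ) = (e.factorial : ℚ) * P.coeff e := by
    rw [diff_poly e P (by omega) _ hP, Polynomial.coeff_eq_zero_of_natDegree_lt (n := e + 1) (by omega)]
    ring
  have hfac : (0 : ℚ) < e.factorial := by exact_mod_cast e.factorial_pos
  constructor
  · have : (0 : ℚ) ≤ ((D1^[e] (chiP F) 0 : ℤ) : ℚ) := hq ▸ mul_nonneg hfac.le h1
    exact_mod_cast this
  · intro heq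
    have : (0 : ℚ) < ((D1^[e] (chiP F) 0 : ℤ) : ℚ) := hq ▸ mul_pos hfac (h2 heq)
    exact_mod_cast this

theorem dim_eq_of_assDim {F : (CohB1.ProjSpace n k).Modules} (hF : Coh.IsCoh F) {e : ℕ} (hA : AssDim F e)
    (hne : ¬ IsZero F) : topologicalKrullDim (CohB1.support F) = (e : WithBot ℕ∞) := by
  haveI := Groth.L11.Slope.noetherian_proj (k := k) (n := n)
  exact (isPure_of_assDim hF hA) F (𝟙 F) inferInstance hF hne

theorem one_le_chiP_diff {F : (CohB1.ProjSpace n k).Modules} (hF : Coh.IsCoh F) {e : ℕ} (hA : AssDim F e)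
    (hne : ¬ IsZero F) : 1 ≤ D1^[e] (chiP F) 0 :=
  (chiP_diff_top hF (dim_eq_of_assDim hF hA hne).le).2 (dim_eq_of_assDim hF hA hne)

/-- The Euler characteristics of a hyperplane section. -/
theorem chiP_coker_diff {F : (CohB1.ProjSpace n k).Modules} (hF : Coh.IsCoh F)
    (ι : CohB1.tensorMod F (Twist.twistProjSpace n k (-1)) ⟶ F) [Mono ι] (e : ℕ) (t : ℤ) :
    D1^[e] (chiP (cokernel ι)) t = D1^[e + 1] (chiP F) t := by
  rw [show chiP (cokernel ι) = D1 (chiP F) from funext fun s => chiP_hyp hF ι s, Function.iterate_succ_apply]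

end Groth.L11.Lemma179
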