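import Groth.Agent.L11.Lemma179.Lower
import Groth.Agent.L22.Reg.Gg

/-!
# Finitely many Hilbert polynomials of pure quotients of a free module
-/

set_option autoImplicit false
set_option linter.style.haveILetI false
set_option linter.unusedSectionVars false
set_option backward.isDefEq.respectTransparency false
set_option backward.isDefEq.respectTransparency.types false

universe u

open CategoryTheory CategoryTheory.Limits AlgebraicGeometry TopologicalSpace Opposite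

noncomputable section

namespace Groth.L11.Lemma179

open Groth.L22.Reg Groth.L16
open Groth.L00.Tensor (tensorRightF tensorIso)
open Groth.L16.CohLinear (hmap overLin exact_hmap_hmap)
open Groth.L11.Slope (D1)

variable {k : Type u} [Field k] {n : ℕ}

theorem isZero_of_iso_obj {A B : (CohB1.ProjSpace n k).Modules} {j : ℤ} (h : IsZero (tw' A j))
    (e : tw' (tw' A j) (-j) ≅ B) : IsZero B :=
  (((tensorRightF (O' n k (-j))).map_isZero h : IsZero (tw' (tw' A j) (-j)))).of_iso e.symm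

theorem assDim_of_mono {A B : (CohB1.ProjSpace n k).Modules} (u : A ⟶ B) [Mono u] {d : ℕ} (h : AssDim B d) :
    AssDim A d := fun x hx => h x (sub_isAssPoint u hx)

theorem support_subset_of_mono {A B : (CohB1.ProjSpace n k).Modules} (u : A ⟶ B) [Mono u] :
    CohB1.support A ⊆ CohB1.support B := fun x hx hs => hx (by
  haveI : Subsingleton ((Groth.L21.Mod.stalkF _ x).obj B) := hs
  exact ((Groth.L21.Mod.mono_iff_stalk_injective u).1 inferInstance x).subsingleton)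

theorem finrank_HH_iso {A B : (CohB1.ProjSpace n k).Modules} (e : A ≅ B) (q : ℕ) :
    Module.finrank k (Coh.HH (CohB1.ProjSpace n k) A q) = Module.finrank k (Coh.HH (CohB1.ProjSpace n k) B q) :=
  Groth.L03.Euler.finrank_HH_of_iso e q

theorem h0t_step {Q : (CohB1.ProjSpace n k).Modules} (hQ : Coh.IsCoh Q)
    (ι : CohB1.tensorMod Q (Twist.twistProjSpace n k (-1)) ⟶ Q) [Mono ι] (t : ℤ) :
    h0t Q t ≤ h0t Q (t - 1) + h0t (cokernel ι) t := by
  haveI := isProper_over_proj (k := k) (n := n)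
  haveI := Groth.L11.Slope.noetherian_proj (k := k) (n := n)
  haveI := hQ.1
  have hT : Coh.IsCoh (cokernel ι) := (CohKernel.isCoh_kernel_cokernel (isCoh_tw hQ (-1)) hQ ι).2
  obtain ⟨e⟩ := nonempty_hypTw_X₁ ι t
  haveI : Module.Finite k (Coh.HH (CohB1.ProjSpace n k) (hypTw ι t).X₂ 0) := finite_h0 hQ t
  haveI : Module.Finite k (Coh.HH (CohB1.ProjSpace n k) (hypTw ι t).X₁ 0) := by
    have h1 : Coh.IsCoh (hypTw ι t).X₁ := isCoh_obj (isCoh_tw hQ (-1)) t
    exact Groth.L16.ProperFinite.finite_HH k h1 0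
  haveI : Module.Finite k (Coh.HH (CohB1.ProjSpace n k) (hypTw ι t).X₃ 0) := finite_h0 hT t
  let f : Coh.HH (CohB1.ProjSpace n k) (hypTw ι t).X₁ 0 →ₗ[k] Coh.HH (CohB1.ProjSpace n k) (hypTw ι t).X₂ 0 :=
    overLin k (hmap (hypTw ι t).f 0)
  let g : Coh.HH (CohB1.ProjSpace n k) (hypTw ι t).X₂ 0 →ₗ[k] Coh.HH (CohB1.ProjSpace n k) (hypTw ι t).X₃ 0 :=
    overLin k (hmap (hypTw ι t).g 0)
  have hex : LinearMap.ker g ≤ LinearMap.range f := fun z hz =>
    (exact_hmap_hmap (hypTw_shortExact ι t) 0 z).1 (LinearMap.mem_ker.1 hz)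
  have h1 := LinearMap.finrank_range_add_finrank_ker g
  have h2 := (Submodule.finrank_mono hex).trans (LinearMap.finrank_range_le f)
  have h3 := Submodule.finrank_le (LinearMap.range g)
  have e1 := finrank_HH_iso e 0
  have e2 : h0t Q t = Module.finrank k (Coh.HH (CohB1.ProjSpace n k) (hypTw ι t).X₂ 0) := h0t_eq Q t
  have e3 : h0t (cokernel ι) t = Module.finrank k (Coh.HH (CohB1.ProjSpace n k) (hypTw ι t).X₃ 0) :=
    h0t_eq (cokernel ι) t
  rw [h0t_eq Q (t - 1), e2, e3, ← e1]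
  omega

theorem h0t_mono [Infinite k] {T : (CohB1.ProjSpace n k).Modules} (hT : Coh.IsCoh T) :
    ∀ (m : ℕ) (t : ℤ), h0t T t ≤ h0t T (t + m) := by
  haveI := isProper_over_proj (k := k) (n := n)
  haveI := Groth.L11.Slope.noetherian_proj (k := k) (n := n)
  haveI := hT.1
  obtain ⟨ℓ, hℓ⟩ := exists_form_avoiding (n := n) (k := k) (Groth.L22.EnrSev.finite_setOf_isAssPoint hT.2)
  let ι : CohB1.tensorMod T (Twist.twistProjSpace n k (-1)) ⟶ T := mu (sigmaF ℓ) T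
  haveI : Mono ι := mono_mu_sigmaF hT ℓ fun x hx => hℓ x hx
  intro m
  induction m with
  | zero => intro t; simp
  | succ m ih =>
    intro t
    obtain ⟨e⟩ := nonempty_tw_tw T (show -1 + (t + (m : ℤ) + 1) = t + m by ring)
    have h1 := h0t_le_of_mono hT ι (t + (m : ℤ) + 1)
    have h2 : h0t (CohB1.tensorMod T (Twist.twistProjSpace n k (-1))) (t + (m : ℤ) + 1) = h0t T (t + m) := by
      rw [h0t_eq, h0t_eq]
      exact finrank_HH_iso e 0
    rw [h2] at h1
    rw [show t + ((m + 1 : ℕ) : ℤ) = t + (m : ℤ) + 1 by push_cast; ring]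
    exact (ih t).trans h1

/-- Sections of very negative twists of pure quotients vanish. -/
theorem exists_neg_vanishing (n b e : ℕ) (a C : ℤ) : ∃ M : ℕ, ∀ (k : Type u) [Field k] [Infinite k]
    (Q : (CohB1.ProjSpace n k).Modules) (q : FM n k b ⟶ Q) [Epi q], Coh.IsCoh Q → AssDim Q (e + 1) →
    D1^[e + 1] (chiP Q) 0 ≤ a → D1^[e] (chiP Q) 0 ≤ C → ∀ j : ℕ, M < j → h0t Q (-(j : ℤ)) = 0 := by
  obtain ⟨ρ₁, hρ₁⟩ := exists_lower_bound.{u} n 1 e a
  obtain ⟨ρ, hρ⟩ := exists_lower_bound.{u} n b e a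
  refine ⟨ρ₁ + ρ * a.toNat + C.toNat, fun k _ _ Q q _ hQ hA ha hC j hj => ?_⟩
  haveI := isProper_over_proj (k := k) (n := n)
  haveI := Groth.L11.Slope.noetherian_proj (k := k) (n := n)
  haveI := hQ.1
  rw [h0t_eq]
  by_contra hne
  let Q' := tw' Q (-(j : ℤ))
  have hQ' : Coh.IsCoh Q' := isCoh_tw hQ _
  haveI := hQ'.1
  obtain ⟨z, hz⟩ : ∃ z : Coh.HH (CohB1.ProjSpace n k) Q' 0, z ≠ 0 := by
    by_contra hall
    push_neg at hall
    haveI : Subsingleton (Coh.HH (CohB1.ProjSpace n k) Q' 0) := subsingleton_of_forall_eq 0 hall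
    exact hne Module.finrank_zero_of_subsingleton
  let s : Coh.structureModule (CohB1.ProjSpace n k) ⟶ Q' :=
    Groth.L16.homOfSection Q' (Groth.L21.RR.e0 Q' z)
  have hs : s ≠ 0 := fun h => hz (by
    apply (Groth.L21.RR.e0 Q').injective
    rw [map_zero, ← Groth.L18.GenLoc.secOf_homOfSection (Groth.L21.RR.e0 Q' z)]
    show Groth.L18.GenLoc.secOf s = 0
    rw [h]
    rfl)
  let Z := Abelian.image s
  let p : Coh.structureModule (CohB1.ProjSpace n k) ⟶ Z := Abelian.factorThruImage s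
  let i : Z ⟶ Q' := Abelian.image.ι s
  have hZ : Coh.IsCoh Z := by
    haveI : Coh.IsQCoh (Coh.structureModule (CohB1.ProjSpace n k)) := CohClosedPush.isCoh_structure.1
    haveI : Coh.IsQCoh (cokernel s) := Devissage.isQCoh_cokernel s
    exact CohSupport.isCoh_kernel hQ' (cokernel.π s)
  let pF : FM n k 1 ⟶ Z := Sigma.desc fun _ => p
  haveI : Epi pF := epi_of_epi_fac (f := Sigma.ι (fun _ : Fin 1 => Coh.structureModule _) 0) (h := p)
    (Sigma.ι_desc _ _)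
  haveI : Mono ((tensorRightF (O' n k (j : ℤ))).map i) :=
    (shortExact_tw (S := ShortComplex.mk i (cokernel.π i) (cokernel.condition i))
      { exact := ShortComplex.exact_cokernel i } (j : ℤ)).mono_f
  obtain ⟨eA⟩ := nonempty_tw_tw Q (show -(j : ℤ) + (j : ℤ) = 0 by ring)
  obtain ⟨eB⟩ := nonempty_tw_zero Q
  let u : tw' Z (j : ℤ) ⟶ Q := (tensorRightF (O' n k (j : ℤ))).map i ≫ (eA ≪≫ eB).hom
  haveI : Mono u := mono_comp _ _
  have hZ0 : ¬ IsZero Z := fun h => hs (by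
    rw [← Abelian.image.fac s, h.eq_of_src (Abelian.image.ι s) 0, comp_zero])
  have hZj0 : ¬ IsZero (tw' Z (j : ℤ)) := fun h => hZ0 (by
    obtain ⟨eC⟩ := nonempty_tw_tw Z (show (j : ℤ) + -(j : ℤ) = 0 by ring)
    obtain ⟨eD⟩ := nonempty_tw_zero Z
    exact isZero_of_iso_obj h (eC ≪≫ eD))
  have hZj : Coh.IsCoh (tw' Z (j : ℤ)) := isCoh_tw hZ _
  have hR : Coh.IsCoh (cokernel u) := (CohKernel.isCoh_kernel_cokernel hZj hQ u).2
  let S := ShortComplex.mk u (cokernel.π u) (cokernel.condition u)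
  have hS : S.ShortExact := { exact := ShortComplex.exact_cokernel u }
  have hadd : chiP Q = fun t => chiP (tw' Z (j : ℤ)) t + chiP (cokernel u) t :=
    funext fun t => chiP_add hS hZj hQ hR t
  have hdQ : topologicalKrullDim (CohB1.support Q) ≤ ((e + 1 : ℕ) : WithBot ℕ∞) := dim_le_of_assDim hQ hA
  have hdR : topologicalKrullDim (CohB1.support (cokernel u)) ≤ ((e + 1 : ℕ) : WithBot ℕ∞) :=
    (Groth.L03.Euler.topologicalKrullDim_set_mono
      (Groth.L11.Slope.support_subset_of_epi (cokernel.π u))).trans hdQ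
  have hdZj : topologicalKrullDim (CohB1.support (tw' Z (j : ℤ))) ≤ ((e + 1 : ℕ) : WithBot ℕ∞) :=
    (Groth.L03.Euler.topologicalKrullDim_set_mono (support_subset_of_mono u)).trans hdQ
  have hdZ : topologicalKrullDim (CohB1.support Z) ≤ ((e + 1 : ℕ) : WithBot ℕ∞) := by
    rw [← Groth.L03.Euler.support_tensor (ProjTwist.isInvertible_twistProjSpace n k (j : ℤ)) Z]
    exact hdZj
  have hshift : ∀ (m : ℕ) (t : ℤ), D1^[m] (chiP (tw' Z (j : ℤ))) t = D1^[m] (chiP Z) ((j : ℤ) + t) := by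
    intro m t
    rw [show chiP (tw' Z (j : ℤ)) = fun s => chiP Z ((j : ℤ) + s) from funext fun s => chiP_tw Z _ s, D1_iter_shift]
  have h1Z := one_le_chiP_diff hZj (assDim_of_mono u hA) hZj0
  have h0R := (chiP_diff_top hR hdR).1
  have htop : D1^[e + 1] (chiP Q) 0 = D1^[e + 1] (chiP Z) 0 + D1^[e + 1] (chiP (cokernel u)) 0 := by
    rw [hadd, D1_iter_add, hshift, (chiP_diff_lin hZ hdZ ((j : ℤ) + 0)).2]
  have hnext : D1^[e] (chiP Q) 0 = D1^[e] (chiP Z) (j : ℤ) + D1^[e] (chiP (cokernel u)) 0 := by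
    rw [hadd, D1_iter_add, hshift, add_zero]
  rw [hshift, (chiP_diff_lin hZ hdZ ((j : ℤ) + 0)).2] at h1Z
  have hlZ := hρ₁ k Z pF hZ hdZ (by omega)
  have hlR := hρ k (cokernel u) (q ≫ cokernel.π u) hR hdR (by omega)
  have eZ := (chiP_diff_lin hZ hdZ (j : ℤ)).1
  have eZ₁ := (chiP_diff_lin hZ hdZ (ρ₁ : ℤ)).1
  have eR := (chiP_diff_lin hR hdR (ρ : ℤ)).1
  have hat : (a.toNat : ℤ) = a := Int.toNat_of_nonneg (by omega)
  have hCt := Int.self_le_toNat C
  have hρa : (ρ : ℤ) * D1^[e + 1] (chiP (cokernel u)) 0 ≤ (ρ : ℤ) * (a.toNat : ℤ) :=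
    mul_le_mul_of_nonneg_left (by omega) (by omega)
  have hjZ : ((j : ℤ) - ρ₁) * 1 ≤ ((j : ℤ) - ρ₁) * D1^[e + 1] (chiP Z) 0 :=
    mul_le_mul_of_nonneg_left h1Z (by
      have : ρ₁ ≤ j := by omega
      omega)
  have hjb : ((ρ₁ : ℤ) + (ρ : ℤ) * (a.toNat : ℤ) + (C.toNat : ℤ)) < (j : ℤ) := by exact_mod_cast hj
  nlinarith

/-- Pure quotients of a free module with bounded top two coefficients have finitely many polynomials. -/
theorem exists_finite_polys (n b : ℕ) : ∀ (d : ℕ) (a C : ℤ), ∃ S : Finset (Polynomial ℚ),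
    ∀ (k : Type u) [Field k] [Infinite k] (Q : (CohB1.ProjSpace n k).Modules) (q : FM n k b ⟶ Q) [Epi q],
      Coh.IsCoh Q → AssDim Q d → D1^[d] (chiP Q) 0 ≤ a → (∀ e, d = e + 1 → D1^[e] (chiP Q) 0 ≤ C) →
      ∃ P ∈ S, ∀ t : ℤ, (chiP Q t : ℚ) = P.eval (t : ℚ) := by
  classical
  intro d
  induction d with
  | zero =>
    intro a C
    refine ⟨(Finset.range (a.toNat + 1)).image fun c : ℕ => Polynomial.C ((c : ℕ) : ℚ),
      fun k _ _ Q q _ hQ hA ha _ => ?_⟩
    haveI := Groth.L11.Slope.noetherian_proj (k := k) (n := n)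
    have hd := dim_le_of_assDim hQ hA
    obtain ⟨P, hPd, hP⟩ := exists_chiP_poly hQ hd
    have h0 := (chiP_diff_top hQ hd).1
    have h0' : 0 ≤ chiP Q 0 := h0
    have ha' : chiP Q 0 ≤ a := ha
    refine ⟨Polynomial.C (((chiP Q 0).toNat : ℕ) : ℚ),
      Finset.mem_image.2 ⟨(chiP Q 0).toNat, Finset.mem_range.2 (by omega), rfl⟩, fun t => ?_⟩
    have hPc := Polynomial.eq_C_of_natDegree_le_zero hPd
    have hev : ∀ x : ℚ, P.eval x = P.coeff 0 := fun x =>
      (congrArg (Polynomial.eval x) hPc).trans Polynomial.eval_C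
    rw [Polynomial.eval_C,
      show (((chiP Q 0).toNat : ℕ) : ℚ) = ((chiP Q 0 : ℤ) : ℚ) by exact_mod_cast Int.toNat_of_nonneg h0', hP, hP,
      hev, hev]
  | succ e ih =>
    intro a C
    obtain ⟨S', hS'⟩ := ih a C
    choose Ms hMs using fun P' : Polynomial ℚ => exists_section_bound.{u} n b P'
    obtain ⟨M, hM⟩ := exists_neg_vanishing.{u} n b e a C
    let t₀ : ℕ := S'.sup Ms
    let B : ℕ := (t₀ + M + 1) * S'.sup fun P' => ⌊P'.eval (t₀ : ℚ)⌋.toNat
    let Cond : Polynomial ℚ → ℕ → Polynomial ℚ → Prop := fun P' v P =>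
      (∀ t : ℤ, P.eval (t : ℚ) - P.eval ((t : ℚ) - 1) = P'.eval (t : ℚ)) ∧ P.eval (t₀ : ℚ) = (v : ℚ)
    let pick : Polynomial ℚ × ℕ → Polynomial ℚ := fun x =>
      if h : ∃ P, Cond x.1 x.2 P then h.choose else 0
    refine ⟨(S' ×ˢ Finset.range (B + 1)).image pick, fun k _ _ Q q _ hQ hA ha hC => ?_⟩
    haveI := isProper_over_proj (k := k) (n := n)
    haveI := Groth.L11.Slope.noetherian_proj (k := k) (n := n)
    haveI := hQ.1
    obtain ⟨ℓ, hℓ⟩ := exists_form_avoiding (n := n) (k := k) (finite_avoid hQ hA)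
    obtain ⟨hm, hTA⟩ := assDim_coker hQ hA ℓ hℓ
    let ι : CohB1.tensorMod Q (Twist.twistProjSpace n k (-1)) ⟶ Q := mu (sigmaF ℓ) Q
    haveI : Mono ι := hm
    have hT : Coh.IsCoh (cokernel ι) := (CohKernel.isCoh_kernel_cokernel (isCoh_tw hQ (-1)) hQ ι).2
    obtain ⟨P', hP'S, hP'⟩ := hS' k (cokernel ι) (q ≫ cokernel.π ι) hT hTA
      (by rw [chiP_coker_diff hQ ι]; exact ha)
      (fun e' he' => by rw [chiP_coker_diff hQ ι, ← he']; exact hC e rfl)
    obtain ⟨hreg, hvan⟩ := hMs P' k Q q ι hQ fun j => by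
      rw [hP' (j : ℤ)]
      norm_cast
    have hMt : Ms P' ≤ t₀ := Finset.le_sup (f := Ms) hP'S
    have hT₀ : (h0t (cokernel ι) (t₀ : ℤ) : ℤ) = chiP (cokernel ι) (t₀ : ℤ) :=
      (chiP_eq_h0t fun i hi => hreg.subsingleton hi (by omega)).symm
    have hh : h0t (cokernel ι) (t₀ : ℤ) ≤ S'.sup fun P' => ⌊P'.eval (t₀ : ℚ)⌋.toNat := by
      refine le_trans (le_of_eq ?_) (Finset.le_sup (f := fun P' => ⌊P'.eval (t₀ : ℚ)⌋.toNat) hP'S)
      show _ = ⌊P'.eval (((t₀ : ℕ) : ℚ))⌋.toNat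
      rw [show ((t₀ : ℕ) : ℚ) = (((t₀ : ℕ) : ℤ) : ℚ) by norm_cast, ← hP', Int.floor_intCast, ← hT₀]
      exact (Int.toNat_natCast _).symm
    have hstep : ∀ m : ℕ, m ≤ t₀ + M + 1 →
        h0t Q (-((M + 1 : ℕ) : ℤ) + m) ≤ m * h0t (cokernel ι) (t₀ : ℤ) := by
      intro m
      induction m with
      | zero =>
        intro _
        rw [Nat.cast_zero, add_zero, hM k Q q hQ hA ha (hC e rfl) (M + 1) (by omega)]
        simp
      | succ m ihm =>
        intro hmle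
        have h1 := h0t_step hQ ι (-((M + 1 : ℕ) : ℤ) + ((m + 1 : ℕ) : ℤ))
        rw [show -((M + 1 : ℕ) : ℤ) + ((m + 1 : ℕ) : ℤ) - 1 = -((M + 1 : ℕ) : ℤ) + (m : ℤ) by omega] at h1
        obtain ⟨r, hr⟩ : ∃ r : ℕ, (t₀ : ℤ) = -((M + 1 : ℕ) : ℤ) + ((m + 1 : ℕ) : ℤ) + r :=
          ⟨((t₀ : ℤ) - (-((M + 1 : ℕ) : ℤ) + ((m + 1 : ℕ) : ℤ))).toNat, by omega⟩
        have h2 := h0t_mono hT r (-((M + 1 : ℕ) : ℤ) + ((m + 1 : ℕ) : ℤ))
        rw [← hr] at h2
        have h3 := ihm (by omega)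
        rw [add_one_mul]
        omega
    have hv : h0t Q (t₀ : ℤ) ≤ B := by
      have := hstep (t₀ + M + 1) le_rfl
      rw [show -((M + 1 : ℕ) : ℤ) + ((t₀ + M + 1 : ℕ) : ℤ) = (t₀ : ℤ) by omega] at this
      exact this.trans (Nat.mul_le_mul_left _ hh)
    have hχ : chiP Q (t₀ : ℤ) = (h0t Q (t₀ : ℤ) : ℤ) := chiP_eq_h0t (hvan _ (by omega))
    obtain ⟨P, -, hP⟩ := exists_chiP_poly hQ (dim_le_of_assDim hQ hA)
    have hcond : Cond P' (h0t Q (t₀ : ℤ)) P := by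
      refine ⟨fun t => ?_, ?_⟩
      · rw [← hP', ← hP, show ((t : ℚ) - 1) = ((t - 1 : ℤ) : ℚ) by push_cast; ring, ← hP, chiP_hyp hQ ι t]
        push_cast
        ring
      · rw [show ((t₀ : ℕ) : ℚ) = (((t₀ : ℕ) : ℤ) : ℚ) by norm_cast, ← hP, hχ]
        norm_cast
    refine ⟨pick (P', h0t Q (t₀ : ℤ)), Finset.mem_image.2 ⟨_, Finset.mem_product.2 ⟨hP'S,
      Finset.mem_range.2 (by omega)⟩, rfl⟩, fun t => ?_⟩
    have hex : ∃ P, Cond (P', h0t Q (t₀ : ℤ)).1 (P', h0t Q (t₀ : ℤ)).2 P := ⟨P, hcond⟩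
    simp only [pick, dif_pos hex]
    obtain ⟨hc1, hc2⟩ := hex.choose_spec
    rw [hP]
    induction t using Int.inductionOn' (b := (t₀ : ℤ)) with
    | zero =>
      rw [Int.cast_natCast, hcond.2, hc2]
    | succ m _ ihm =>
      have := hc1 (m + 1)
      have := hcond.1 (m + 1)
      push_cast at *
      rw [add_sub_cancel_right] at *
      linarith
    | pred m _ ihm =>
      have := hc1 m
      have := hcond.1 m
      push_cast at *
      linarith

end Groth.L11.Lemma179
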