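import Groth.Agent.L11.Lemma179.Ass
import Groth.Agent.L02.FibDepth.Constructible
import Groth.Agent.L02.FibDepth.Results
import Groth.Agent.L18.NegVanishStalk
import Groth.Agent.L02.An.Dense
import Groth.Agent.L15.Ref.FreeLocus
import Groth.Agent.L19.SupportPullback
import Groth.Agent.L22.Inter.Top
import Groth.Agent.L20.FibreModuleScheme
import Groth.Agent.L04.LC.CompletionDim

/-!
# Points of small depth on a pure module over a field
-/

set_option autoImplicit false
set_option linter.style.haveILetI false
set_option backward.isDefEq.respectTransparency false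
set_option backward.isDefEq.respectTransparency.types false

universe u

open CategoryTheory CategoryTheory.Limits AlgebraicGeometry TopologicalSpace Opposite IsLocalRing

noncomputable section

namespace Groth.L11.Lemma179

variable {k : Type u} [Field k] {X : Scheme.{u}} (f : X ⟶ Spec (CommRingCat.of k))

theorem fibI_eq_bot (x : X) : Groth.L18.NegVanish.fibI f x = ⊥ := by
  have h : maximalIdeal ((Spec (CommRingCat.of k)).presheaf.stalk (f.base x)) = ⊥ := by
    have hf : IsField ((Spec (CommRingCat.of k)).presheaf.stalk (f.base x)) := by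
      let p := f x
      let e := (Spec.stalkIso (CommRingCat.of k) p).commRingCatIsoToRingEquiv
      have : p.asIdeal = ⊥ := (Ideal.eq_bot_or_top p.asIdeal).resolve_right p.2.ne_top
      have hm : p.asIdeal ∈ minimalPrimes k := ⟨⟨p.2, bot_le⟩, fun q _ _ => this ▸ bot_le⟩
      have : Ring.KrullDimLE 0 (Localization.AtPrime p.asIdeal) := .of_isLocalization _ hm _
      exact MulEquiv.isField (Ring.KrullDimLE.isField_of_isReduced (R := Localization.AtPrime p.asIdeal)) e.toMulEquiv
    exact IsLocalRing.isField_iff_maximalIdeal_eq.1 hf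
  show (maximalIdeal _).map (f.stalkMap x).hom = ⊥
  rw [h, Ideal.map_bot]

theorem fiber_preimage_eq_univ (x : X) : f ⁻¹' {f x} = Set.univ :=
  Set.eq_univ_of_forall fun y => show f y = f x from @Subsingleton.elim (PrimeSpectrum k) _ _ _

variable [LocallyOfFinitePresentation f] [AlgebraicGeometry.IsNoetherian X] {F : X.Modules} (hF : Coh.IsCoh F)

open L02.FibDepth in
/-- The numerical invariants on a scheme over a field. -/
theorem values (x : X) :
    (x ∈ (pd f F (Groth.L15.Ref.isFP_of_isCoh hF)).S ↔ x ∈ CohB1.support F) ∧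
    ((pd f F (Groth.L15.Ref.isFP_of_isCoh hF)).δ x : WithBot ℕ∞) = topologicalKrullDim (closure ({x} : Set X)) ∧
    (x ∈ CohB1.support F →
      LocCoh.depth (X.presheaf.stalk x) (F.presheaf.stalk x) = ((pd f F (Groth.L15.Ref.isFP_of_isCoh hF)).a x : ℕ∞)) := by
  haveI : Coh.IsQCoh F := hF.1
  have h1 : x ∈ (pd f F (Groth.L15.Ref.isFP_of_isCoh hF)).S ↔ x ∈ CohB1.support F := by
    have h := Groth.L19.SupportPullback.support_pullback (f.fiberι (f.base x)) F hF.2
    have h' : f.asFiber x ∈ CohB1.support ((Scheme.Modules.pullback (f.fiberι (f.base x))).obj F) ↔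
        x ∈ CohB1.support F := by
      rw [h, Set.mem_preimage, f.fiberι_asFiber]
    exact (not_subsingleton_iff_nontrivial).symm.trans h'
  refine ⟨h1, ?_, fun hx => ?_⟩
  · refine ((dim_closure_asFiber_eq (hasCharts₀_module f F (Groth.L15.Ref.isFP_of_isCoh hF)) x).symm.trans
      (dim_closure_asFiber f x)).trans ?_
    rw [fiber_preimage_eq_univ, Set.inter_univ]
  · have h2 := Groth.L18.NegVanish.sdep_asFiber f F x
    have h3 := depth_fibre f F (Groth.L15.Ref.isFP_of_isCoh hF) x
    rw [if_pos (h1.2 hx)] at h3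
    have h4 : Groth.L18.NegVanish.sdep f F x = LocCoh.depth (X.presheaf.stalk x) (F.presheaf.stalk x) :=
      Groth.L04.CplDim.depth_congr (Submodule.quotEquivOfEqBot _ (by rw [fibI_eq_bot, Submodule.bot_smul]))
    rw [← h4, h2]
    exact h3

include f hF in
/-- Finitely many points of depth at most one with closure of dimension `c`, two below the dimension. -/
theorem finite_bad {e : ℕ} (hA : AssDim F e) (c : ℕ) (hc : c + 1 < e) :
    {x : X | x ∈ CohB1.support F ∧ LocCoh.depth (X.presheaf.stalk x) (F.presheaf.stalk x) ≤ 1 ∧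
      topologicalKrullDim (closure ({x} : Set X)) = (c : WithBot ℕ∞)}.Finite := by
  let D := L02.FibDepth.pd f F (Groth.L15.Ref.isFP_of_isCoh hF)
  let hch := L02.FibDepth.hasCharts₀_module f F (Groth.L15.Ref.isFP_of_isCoh hF)
  let Z : Set X := L02.FibDepth.ZS hch (c + 1) 0
  have hmem : ∀ x, x ∈ Z ↔ x ∈ CohB1.support F ∧ D.a x + D.δ x ≤ c + 1 := fun x =>
    ⟨fun h => ⟨(values f hF x).1.1 h.1, h.2.1⟩, fun h => ⟨(values f hF x).1.2 h.1, h.2, Nat.zero_le _⟩⟩
  have hle : ∀ x ∈ Z, D.δ x ≤ c := by
    intro x hx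
    obtain ⟨hs, hsum⟩ := (hmem x).1 hx
    by_contra hlt
    have ha : D.a x = 0 := by omega
    have hass : Curv2.IsAssPoint F x := by
      haveI : Module.Finite (X.presheaf.stalk x) (F.presheaf.stalk x) :=
        Groth.L20.FibreModule.finite_stalk F hF.1 (Groth.L15.Ref.isFP_of_isCoh hF) x
      refine (L02.FibDepth.isAssociatedPrime_maximalIdeal_iff _ _).2 ⟨not_subsingleton_iff_nontrivial.1 hs, ?_⟩
      rw [(values f hF x).2.2 hs]
      exact_mod_cast ha
    have h := (values f hF x).2.1.trans (hA x hass)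
    have : D.δ x = e := by exact_mod_cast h
    omega
  have hlc : Topology.IsLocallyConstructible Z := L02.FibDepth.isLocallyConstructible_of_charts hch fun x ch =>
    ⟨_, L02.FibDepth.isConstructible_ZP ch.N (c + 1) 0, fun z => L02.FibDepth.mem_ZS_iff hch ch z (c + 1) 0⟩
  have hdim : topologicalKrullDim (closure Z) ≤ (c : WithBot ℕ∞) := by
    refine le_of_not_gt fun hlt => ?_
    have h1 : ((c + 1 : ℕ) : WithBot ℕ∞) ≤ topologicalKrullDim (closure Z) := by
      generalize topologicalKrullDim (closure Z) = T at hlt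
      induction T using WithBot.recBotCoe with
      | bot => exact absurd hlt (by simp)
      | coe T =>
        have h2 : (c : ℕ∞) < T := WithBot.coe_lt_coe.1 hlt
        have h3 := Order.add_one_le_of_lt h2
        show ((((c + 1 : ℕ) : ℕ∞)) : WithBot ℕ∞) ≤ (T : WithBot ℕ∞)
        exact WithBot.coe_le_coe.2 (by exact_mod_cast h3)
    obtain ⟨w, hw, hwd⟩ := Groth.L03.Euler.exists_point_dim_closure_ge isClosed_closure h1
    obtain ⟨q, V, -, hqV, hVZ, hqw⟩ := Groth.L02.An.exists_specializes_of_mem_closure hlc.isConstructible hw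
    have hq : q ∈ Z := hVZ ⟨hqV, subset_closure rfl⟩
    have h4 := hwd.trans (Groth.L03.Euler.topologicalKrullDim_set_mono (specializes_iff_closure_subset.1 hqw))
    rw [← (values f hF q).2.1] at h4
    have h5 : c + 1 ≤ D.δ q := by exact_mod_cast h4
    have := hle q hq
    omega
  refine (Groth.L22.Inter.finite_top isClosed_closure hdim).subset fun x ⟨hs, hdep, hd⟩ =>
    ⟨subset_closure ((hmem x).2 ⟨hs, ?_⟩), hd⟩
  have h1 : D.δ x = c := by exact_mod_cast (values f hF x).2.1.trans hd
  have h2 : D.a x ≤ 1 := by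
    have := (values f hF x).2.2 hs ▸ hdep
    exact_mod_cast this
  omega

end Groth.L11.Lemma179
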