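import Groth.Agent.L11.Lemma179.Fibres
import Groth.Agent.L11.NumOrth.Bounded

/-!
# The product of a projective variety with a base
-/

set_option autoImplicit false
set_option linter.style.haveILetI false
set_option linter.unusedSectionVars false
set_option backward.isDefEq.respectTransparency false
set_option backward.isDefEq.respectTransparency.types false

universe u

open CategoryTheory CategoryTheory.Limits AlgebraicGeometry

noncomputable section

namespace Groth.L11.Lemma179

open Groth.L02.Quot

variable {k : Type u} [Field k] {n : ℕ} {X : Scheme.{u}}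

/-- The two twisting modules agree. -/
theorem nonempty_OX_iso' (i : X ⟶ CohB1.ProjSpace n k) [IsClosedImmersion i] (d : ℤ) :
    Nonempty (OX (i ≫ (Groth.L16.ProjSpace.isoOver n k).hom) d ≅
      (Scheme.Modules.pullback i).obj (Twist.twistProjSpace n k d)) := by
  have h : (i ≫ (Groth.L16.ProjSpace.isoOver n k).hom) ≫
      pullback.fst (CohB1.ProjSpace.toSpec n (ULift.{u} ℤ)) (specULiftZIsTerminal.from (Spec (CommRingCat.of k))) =
      i ≫ Groth.L16.ProjSpace.map n ((algebraMap ℤ k).comp ULift.ringEquiv.toRingHom : ULift.{u} ℤ →+* k) := by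
    rw [Category.assoc]
    exact congrArg (i ≫ ·) (Groth.L16.ProjSpace.isPullback_over n (R := k)).isoPullback_hom_fst
  exact ⟨(Scheme.Modules.pullbackComp _ _).app _ ≪≫ (Scheme.Modules.pullbackCongr h).app _ ≪≫
    ((Scheme.Modules.pullbackComp _ _).app _).symm ≪≫
    (Scheme.Modules.pullback i).mapIso (Groth.L22.Reg.nonempty_pullback_O _ d).some⟩

/-- The product with a base sits in projective space over it. -/
theorem exists_proj_prod {p : X ⟶ Spec (CommRingCat.of k)} (ι : X ⟶ CohB1.ProjSpace n k) [IsClosedImmersion ι]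
    (hι : ι ≫ CohB1.ProjSpace.toSpec n k = p) {S : Scheme.{u}} (q : S ⟶ Spec (CommRingCat.of k)) :
    ∃ l : pullback p q ⟶ CohB1.ProjSpaceOver n S, IsClosedImmersion l ∧
      l ≫ CohB1.ProjSpaceOver.toBase n S = pullback.snd p q ∧
      Nonempty ((Scheme.Modules.pullback (pullback.fst p q)).obj
        ((Scheme.Modules.pullback ι).obj (Twist.twistProjSpace n k 1)) ≅ OX l 1) := by
  have hf : (ι ≫ (Groth.L16.ProjSpace.isoOver n k).hom) ≫
      CohB1.ProjSpaceOver.toBase n (Spec (CommRingCat.of k)) = p := by
    rw [Category.assoc, Groth.L16.ProjSpace.isoOver_hom_toBase]; exact hι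
  obtain ⟨l, hl, hlf, hOX⟩ := exists_proj_baseChange' (ι ≫ (Groth.L16.ProjSpace.isoOver n k).hom) hf q
  exact ⟨l, hl, hlf, ⟨(Scheme.Modules.pullback _).mapIso (nonempty_OX_iso' ι 1).some.symm ≪≫ (hOX 1).some.symm⟩⟩

end Groth.L11.Lemma179
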