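import Groth.Agent.L03.ShStab.BCFilt
import Groth.Agent.L03.ShStab.Ell
import Groth.Agent.L03.ShStab.Quot

/-!
# Truncated semistability and extensions of the ground field
-/

set_option autoImplicit false
set_option linter.style.haveILetI false
set_option linter.unusedSectionVars false
set_option backward.isDefEq.respectTransparency false
set_option backward.isDefEq.respectTransparency.types false

universe u

open CategoryTheory CategoryTheory.Limits AlgebraicGeometry Polynomial StabCat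
open Groth.L00.SubobjLattice (qt qπ)

noncomputable section

namespace Groth.L11.Lemma179

open Groth.L03.Euler Groth.L03.ShStab Groth.L03.ShStab.Basic Groth.L16.AffineBC

/-- Non-strict or strict comparison. -/
def Cmp : Bool → ℕ → ℚ[X] → ℚ[X] → Prop
  | false, d, P, Q => RedLE d P Q
  | true, d, P, Q => RedLT d P Q

/-- Truncated semistability or stability. -/
def EllX (st : Bool) (k : Type u) [Field k] (X : Scheme.{u}) [X.Over (Spec (CommRingCat.of k))]
    (L E : X.Modules) (d ℓ : ℕ) : Prop :=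
  Coh.IsCoh E ∧ ¬ IsZero E ∧ _root_.ShStab.IsPure X E d ∧
    ∀ (F : X.Modules) (ι : F ⟶ E), Mono ι → Coh.IsCoh F → ∀ (pF pE : ℚ[X]),
      _root_.ShStab.IsHilbPoly k X L F pF → _root_.ShStab.IsHilbPoly k X L E pE →
      0 < alpha d pF → alpha d pF < alpha d pE → Cmp st d (topPart ℓ d pF) (topPart ℓ d pE)

/-- The polynomial of a destabilising quotient. -/
def Bad (st : Bool) (d ℓ : ℕ) (P Φ : ℚ[X]) : Prop :=
  0 < alpha d (P - Φ) ∧ alpha d (P - Φ) < alpha d P ∧
    ¬ Cmp st d (topPart ℓ d (P - Φ)) (topPart ℓ d P)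

section Congr

variable {k : Type u} [Field k] {X : Scheme.{u}} [X.Over (Spec (CommRingCat.of k))]

theorem ellX_false_iff {L E : X.Modules} {d ℓ : ℕ} :
    EllX false k X L E d ℓ ↔ _root_.ShStab.IsEllSemistable k X L E d ℓ := Iff.rfl

theorem ellX_true_iff {L E : X.Modules} {d ℓ : ℕ} :
    EllX true k X L E d ℓ ↔ _root_.ShStab.IsEllStable k X L E d ℓ := Iff.rfl

theorem isPure_congr {E E' : X.Modules} (e : E ≅ E') {d : ℕ} (h : _root_.ShStab.IsPure X E d) :
    _root_.ShStab.IsPure X E' d := fun F ι hι hF h0 =>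
  haveI := hι; h F (ι ≫ e.inv) inferInstance hF h0

theorem isHilbPoly_congrL {L L' : X.Modules} (eL : L ≅ L') {G : X.Modules} {P : ℚ[X]}
    (h : _root_.ShStab.IsHilbPoly k X L G P) : _root_.ShStab.IsHilbPoly k X L' G P := fun m => by
  rw [← h m, Groth.L03.Euler.euler_iso (k := k) (show ShStab.twist X L G m ≅ ShStab.twist X L' G m from
    Groth.L00.Tensor.tensorIso (Iso.refl G) (Groth.L00.Tensor.tensorPowIso eL m))]

theorem ellX_congr [IsLocallyNoetherian X] {st : Bool} {L L' E E' : X.Modules} {d ℓ : ℕ} (eL : L ≅ L') (e : E ≅ E')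
    (h : EllX st k X L E d ℓ) : EllX st k X L' E' d ℓ :=
  ⟨Groth.L16.CohSupport.isCoh_of_iso e h.1, fun h0 => h.2.1 (h0.of_iso e), isPure_congr e h.2.2.1,
    fun F ι hι hF pF pE hpF hpE h1 h2 => haveI := hι
      h.2.2.2 F (ι ≫ e.inv) inferInstance hF pF pE (isHilbPoly_congrL eL.symm hpF)
        (isHilbPoly_iso e.symm (isHilbPoly_congrL eL.symm hpE)) h1 h2⟩

end Congr

section Field

variable {k : Type u} [Field k] {X : Scheme.{u}} [X.Over (Spec (CommRingCat.of k))]
  [IsProper (X ↘ Spec (CommRingCat.of k))] {L E : X.Modules} {d ℓ : ℕ}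

/-- A destabilising quotient contradicts semistability. -/
theorem not_bad_of_ellX {st : Bool} (hL : CohB1.IsAmple L) (hE : EllX st k X L E d ℓ) {P : ℚ[X]}
    (hP : _root_.ShStab.IsHilbPoly k X L E P) {D : X.Modules} (π : E ⟶ D) [Epi π] (hD : Coh.IsCoh D)
    {Φ : ℚ[X]} (hΦ : _root_.ShStab.IsHilbPoly k X L D Φ) : ¬ Bad st d ℓ P Φ := by
  rintro ⟨h1, h2, h3⟩
  haveI : IsLocallyNoetherian X := Basic.locallyNoetherian (k := k)
  obtain ⟨hK, -, -⟩ := coh_parts k hE.1 hD π
  have dE := dim_le_of_isPure hE.1 hE.2.2.1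
  obtain ⟨pK, hpK⟩ := exists_hilb (k := k) hL.1 hK (dim_sub_le (kernel.ι π) dE)
  have hS : (ShortComplex.mk (kernel.ι π) π (kernel.condition π)).ShortExact :=
    ShortComplex.ShortExact.mk (ShortComplex.exact_kernel π)
  have he : P = pK + Φ := isHilbPoly_unique hP (isHilbPoly_add hL.1 hS hK hE.1 hD hpK hΦ)
  have hK' : pK = P - Φ := by rw [he]; ring
  rw [← hK'] at h1 h2 h3
  exact h3 (hE.2.2.2 _ (kernel.ι π) inferInstance hK pK P hpK hP h1 h2)

theorem cmp_of_le {st : Bool} {A C T : ℚ[X]} (hA : alpha d A = alpha d C) (hT : 0 < alpha d T)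
    (h : PolyLE A C) (hc : Cmp st d C T) : Cmp st d A T := by
  cases st
  · show PolyLE (alpha d T • A) (alpha d A • T)
    rw [hA]
    exact PolyOrd.polyLE_trans (PolyOrd.polyLE_smul hT.le h) hc
  · show PolyLT (alpha d T • A) (alpha d A • T)
    rw [hA]
    exact PolyOrd.polyLT_of_le_of_lt (PolyOrd.polyLE_smul hT.le h) hc

/-- A pure module is semistable as soon as no pure quotient is destabilising. -/
theorem ellX_of_no_bad {st : Bool} (hL : CohB1.IsAmple L) (hE : Coh.IsCoh E) (h0 : ¬ IsZero E)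
    (hp : _root_.ShStab.IsPure X E d) {P : ℚ[X]} (hP : _root_.ShStab.IsHilbPoly k X L E P)
    (h : ∀ (D : X.Modules) (π : E ⟶ D), Epi π → Coh.IsCoh D → _root_.ShStab.IsPure X D d →
      ∀ Φ : ℚ[X], _root_.ShStab.IsHilbPoly k X L D Φ → ¬ Bad st d ℓ P Φ) :
    EllX st k X L E d ℓ := by
  refine ⟨hE, h0, hp, fun F ι hι hF pF pE hpF hpE h1 h2 => ?_⟩
  haveI := hι
  haveI : IsLocallyNoetherian X := Basic.locallyNoetherian (k := k)
  haveI : CompactSpace X := QuasiCompact.compactSpace_of_compactSpace (X ↘ Spec (CommRingCat.of k))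
  haveI : AlgebraicGeometry.IsNoetherian X := {}
  obtain rfl := isHilbPoly_unique hpE hP
  have hd := dim_le_of_isPure hE hp
  obtain ⟨a, -, hqa, -, -⟩ := Filt.exists_mem (k := k) hL hE hd F ι hF hpF
  have hqe : (Bridge.stabData (k := k) hL hE hd).q ⊥ ⊤ = pE := Bridge.q_bot_top hL hE hd hpE
  obtain ⟨c, hac, hc0, hcp⟩ := (Bridge.stabData (k := k) hL hE hd).exists_saturation a
  let D₀ := Bridge.stabData (k := k) hL hE hd
  have hva : D₀.av ⊥ a = alpha d pF := congrArg (alpha d) hqa
  have heq : D₀.av ⊥ a = D₀.av ⊥ c := by rw [← D₀.av_add ⊥ a c, hc0, add_zero]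
  have hqc : D₀.q c ⊤ = pE - D₀.q ⊥ c := by
    rw [← hqe]
    simp only [D₀, StabData.q]
    ring
  haveI : Epi (qπ c.1 (⊤ : Subobject E) le_top) := inferInstanceAs (Epi (cokernel.π _))
  have hbad := h (qt c.1 (⊤ : Subobject E) le_top)
    ((asIso (⊤ : Subobject E).arrow).inv ≫ qπ c.1 ⊤ le_top) inferInstance
    (Bridge.isCoh_qt le_top c.2 (Bridge.isCoh_top hE))
    ((Bridge.isPure_qt_iff (k := k) hL hE hd (a := c) (b := ⊤) le_top).2 hcp) (D₀.q c ⊤)
    (Bridge.hilb_q (k := k) hL hE hd (a := c) (b := ⊤) le_top)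
  by_contra hcmp
  refine hbad ?_
  have e : pE - D₀.q c ⊤ = D₀.q ⊥ c := by rw [hqc]; ring
  rw [Bad, e]
  have hαc : alpha d (D₀.q ⊥ c) = alpha d pF := heq.symm.trans hva
  refine ⟨hαc ▸ h1, hαc ▸ h2, fun hc => hcmp ?_⟩
  refine cmp_of_le (C := topPart ℓ d (D₀.q ⊥ c)) ?_ ?_ ?_ hc
  · rw [PolyOrd.alpha_topPart, PolyOrd.alpha_topPart, hαc]
  · rw [PolyOrd.alpha_topPart]; exact h1.trans h2
  · have hr := (D₀.trunc ℓ).r_le_of_av_eq hac (by rw [StabData.trunc_av, hva]; exact h1)
      (by rw [StabData.trunc_av, StabData.trunc_av]; exact heq)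
    rw [StabData.trunc_r, StabData.trunc_r, hqa] at hr
    have := PolyOrd.polyLE_smul h1.le hr
    rwa [red, red, PolyOrd.alpha_topPart, PolyOrd.alpha_topPart, hαc, smul_smul, smul_smul,
      mul_inv_cancel₀ h1.ne', one_smul, one_smul] at this

/-- Modules with a jointly monic family of maps to a pure module. -/
theorem exists_hilb_jointly (hL : CohB1.IsAmple L) (hE : Coh.IsCoh E) (hp : _root_.ShStab.IsPure X E d)
    {pE : ℚ[X]} (hpE : _root_.ShStab.IsHilbPoly k X L E pE) :
    ∀ (n : ℕ) (G : X.Modules) (p : Fin n → (G ⟶ E)),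
      (∀ (Z : X.Modules) (x : Z ⟶ G), (∀ i, x ≫ p i = 0) → x = 0) → Coh.IsCoh G →
        ∃ pG, _root_.ShStab.IsHilbPoly k X L G pG ∧ 0 ≤ alpha d pG ∧ (alpha d pG = 0 → pG = 0) ∧
          (EllX false k X L E d ℓ → RedLE d (topPart ℓ d pG) (topPart ℓ d pE)) := by
  haveI : IsLocallyNoetherian X := Basic.locallyNoetherian (k := k)
  have dE := dim_le_of_isPure hE hp
  intro n
  induction n with
  | zero =>
    intro G p hp' hG
    have h0 : IsZero G := (IsZero.iff_id_eq_zero G).2 (hp' G (𝟙 G) fun i => i.elim0)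
    refine ⟨0, isHilbPoly_zero hL.1 h0, by simp [alpha], fun _ => rfl, fun _ => ?_⟩
    rw [show topPart ℓ d (0 : ℚ[X]) = 0 by simp [topPart]]
    exact Bound.redLE_zero d _
  | succ n ih =>
    intro G p hp' hG
    obtain ⟨hK, hI, -⟩ := coh_parts k hG hE (p 0)
    obtain ⟨pK, hpK, nK, zK, bK⟩ := ih (kernel (p 0)) (fun i => kernel.ι (p 0) ≫ p i.succ) (fun Z x hx => by
      rw [← cancel_mono (kernel.ι (p 0)), Limits.zero_comp]
      refine hp' Z _ fun i => ?_
      refine Fin.cases ?_ (fun j => ?_) i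
      · rw [Category.assoc, kernel.condition, Limits.comp_zero]
      · rw [Category.assoc]; exact hx j) hK
    let ι := Abelian.image.ι (p 0)
    have dI := dim_sub_le ι dE
    obtain ⟨pI, hpI⟩ := exists_hilb (k := k) hL.1 hI dI
    have nI := alpha_nonneg hL hI dI hpI
    have zI : alpha d pI = 0 → pI = 0 := fun h => by
      by_cases hI0 : IsZero (Abelian.image (p 0))
      · exact isHilbPoly_unique hpI (isHilbPoly_zero hL.1 hI0)
      · exact absurd h (alpha_pos_sub hL hp ι hI hI0 hpI).ne'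
    refine ⟨pK + pI, isHilbPoly_add hL.1 (Groth.L16.Devissage.shortExact_kernel_image (p 0)) hK hG hI hpK hpI,
      by rw [PolyOrd.alpha_add]; linarith, fun h => ?_, fun hss => ?_⟩
    · rw [PolyOrd.alpha_add] at h
      rw [zK (by linarith), zI (by linarith), add_zero]
    · rw [PolyOrd.topPart_add]
      refine Bound.redLE_add (bK hss) ?_
      obtain ⟨-, -, hC⟩ := coh_parts k hI hE ι
      have dC := dim_quot_le (cokernel.π ι) dE
      obtain ⟨pC, hpC⟩ := exists_hilb (k := k) hL.1 hC dC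
      have hsum := hilb_cokernel hL hI hE ι hpI hpE hpC
      have nC := alpha_nonneg hL hC dC hpC
      rcases nI.eq_or_lt with h | h
      · rw [zI h.symm, show topPart ℓ d (0 : ℚ[X]) = 0 by simp [topPart]]
        exact Bound.redLE_zero d _
      rcases nC.eq_or_lt with h' | h'
      · have he : alpha d pI = alpha d pE := by rw [hsum, PolyOrd.alpha_add, ← h', add_zero]
        rw [RedLE, PolyOrd.alpha_topPart, PolyOrd.alpha_topPart, ← he]
        refine PolyOrd.polyLE_smul h.le (PolyOrd.polyLE_iff.2 ?_)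
        rw [← PolyOrd.topPart_sub, hsum, add_sub_cancel_left]
        exact PolyOrd.topPart_nonneg ℓ (natDegree_le hL.1 hC dC hpC) (nonneg_leadingCoeff hL hC dC hpC)
      · exact hss.2.2.2 _ ι inferInstance hI pI pE hpI hpE h (by rw [hsum, PolyOrd.alpha_add]; linarith)

/-- Submodules after a finite extension of the ground field. -/
theorem bound_finExt (hL : CohB1.IsAmple L) (hE : Coh.IsCoh E) (hp : _root_.ShStab.IsPure X E d) {pE : ℚ[X]}
    (hpE : _root_.ShStab.IsHilbPoly k X L E pE) {K : Type u} [Field K] [Algebra k K] [FiniteDimensional k K]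
    {F : (Xb k K X).Modules} (ι : F ⟶ (Scheme.Modules.pullback (gb k K X)).obj E) [Mono ι]
    (hF : Coh.IsCoh F) {pF : ℚ[X]}
    (hpF : _root_.ShStab.IsHilbPoly K (Xb k K X) ((Scheme.Modules.pullback (gb k K X)).obj L) F pF) :
    (alpha d pF = 0 → pF = 0) ∧ (EllX false k X L E d ℓ → RedLE d (topPart ℓ d pF) (topPart ℓ d pE)) := by
  haveI : Coh.IsQCoh E := hE.1
  have sq : IsPullback (gb k K X) (Xb k K X ↘ Spec (CommRingCat.of K)) (X ↘ Spec (CommRingCat.of k))
      (Spec.map (CommRingCat.ofHom (algebraMap k K))) := IsPullback.of_hasPullback _ _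
  let b := Module.finBasis k K
  obtain ⟨p, hp'⟩ := FinExt.exists_coords k X K E b
  haveI : (Scheme.Modules.pushforward (gb k K X)).IsRightAdjoint :=
    (Scheme.Modules.pullbackPushforwardAdjunction (gb k K X)).isRightAdjoint
  haveI : Mono ((Coh.push (gb k K X)).map ι) := inferInstanceAs (Mono ((Scheme.Modules.pushforward _).map ι))
  obtain ⟨q, hq, -, hz, hb⟩ := exists_hilb_jointly (ℓ := ℓ) hL hE hp hpE (Module.finrank k K)
    ((Coh.push (gb k K X)).obj F)
    (fun i => (Coh.push (gb k K X)).map ι ≫ p i) (fun Z x hx => by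
      rw [← cancel_mono ((Coh.push (gb k K X)).map ι), Limits.zero_comp]
      exact hp' Z _ fun i => by rw [Category.assoc]; exact hx i) (FinExt.isCoh_push sq hF)
  have e : q = (Module.finrank k K : ℚ) • pF :=
    isHilbPoly_unique hq (FinExt.isHilbPoly_push sq hL.1 hF hpF)
  have hr : (0 : ℚ) < (Module.finrank k K : ℚ) := Nat.cast_pos.2 Module.finrank_pos
  refine ⟨fun h => ?_, fun hss => ?_⟩
  · exact (smul_eq_zero.1 (e ▸ hz (by rw [e, PolyOrd.alpha_smul, h, mul_zero]))).resolve_left hr.ne'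
  · have h := hb hss
    rw [e, PolyOrd.topPart_smul] at h
    exact (Bound.redLE_smul_iff hr).1 h

/-- Submodules after an arbitrary extension of the ground field. -/
theorem bound_ext (hL : CohB1.IsAmple L) (hE : Coh.IsCoh E) (hp : _root_.ShStab.IsPure X E d) {pE : ℚ[X]}
    (hpE : _root_.ShStab.IsHilbPoly k X L E pE) {K : Type u} [Field K] [Algebra k K]
    {F : (Xb k K X).Modules} (ι : F ⟶ (Scheme.Modules.pullback (gb k K X)).obj E) [Mono ι]
    (hF : Coh.IsCoh F) {pF : ℚ[X]}
    (hpF : _root_.ShStab.IsHilbPoly K (Xb k K X) ((Scheme.Modules.pullback (gb k K X)).obj L) F pF) :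
    (alpha d pF = 0 → pF = 0) ∧ (EllX false k X L E d ℓ → RedLE d (topPart ℓ d pF) (topPart ℓ d pE)) := by
  obtain ⟨A, hA, h, sq, hh, G, κ, hκ, hG, ⟨e⟩⟩ := Spread.exists_spread hE ι hF
  haveI := hκ
  haveI : Algebra.FiniteType k A := A.fg_iff_finiteType.1 hA
  obtain ⟨k', _, _, _, F₀, ι₀, hι₀, hF₀, heq⟩ :=
    Special.exists_special hL.1 hE (A := A) (K := K) Subtype.val_injective h hh sq κ hG e
  haveI := hι₀
  exact bound_finExt hL hE hp hpE ι₀ hF₀ fun m => (congrArg (Int.cast : ℤ → ℚ) (heq m)).trans (hpF m)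

/-- Purity passes to extensions of the ground field. -/
theorem isPure_xb (hL : CohB1.IsAmple L) (hE : Coh.IsCoh E) (hp : _root_.ShStab.IsPure X E d)
    (K : Type u) [Field K] [Algebra k K] :
    _root_.ShStab.IsPure (Xb k K X) ((Scheme.Modules.pullback (gb k K X)).obj E) d := by
  haveI := BC.flat_gb (X := X) (k := k) K
  haveI := BC.surjective_gb (X := X) (k := k) K
  haveI : IsLocallyNoetherian X := Basic.locallyNoetherian (k := k)
  haveI : IsLocallyNoetherian (Xb k K X) := Basic.locallyNoetherian (k := K)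
  intro F ι hι hF hF0
  haveI := hι
  by_cases h0 : IsZero E
  · exact absurd (IsZero.of_mono ι ((Scheme.Modules.pullback (gb k K X)).map_isZero h0)) hF0
  have hLK := Groth.L18.Ample.isAmple_pullback_of_isAffineHom (gb k K X) hL
  have hdE : topologicalKrullDim (CohB1.support E) = d := hp E (𝟙 E) inferInstance hE h0
  obtain ⟨pE, hpE⟩ := exists_hilb (k := k) hL.1 hE hdE.le
  have dK : topologicalKrullDim (CohB1.support ((Scheme.Modules.pullback (gb k K X)).obj E)) = d :=
    BC.dim_support_bc hL hE h0 hdE K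
  obtain ⟨e, hed, he⟩ := exists_nat_dim hF0 (dim_sub_le ι dK.le)
  obtain ⟨pF, hpF⟩ := exists_hilb (k := K) hLK.1 hF he.le
  obtain ⟨h1, h2⟩ := natDegree_eq_and_coeff_pos hLK hF he hpF
  rcases hed.lt_or_eq with hlt | rfl
  · have hz := (bound_ext (ℓ := 0) hL hE hp hpE ι hF hpF).1
      (PolyOrd.alpha_eq_zero_iff.2 (coeff_eq_zero_of_natDegree_lt (h1.trans_lt hlt)))
    rw [hz] at h2
    simp at h2
  · exact he

/-- Semistability passes to extensions of the ground field. -/
theorem ellX_xb (hL : CohB1.IsAmple L) (hE : EllX false k X L E d ℓ) (K : Type u) [Field K] [Algebra k K] :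
    EllX false K (Xb k K X) ((Scheme.Modules.pullback (gb k K X)).obj L)
      ((Scheme.Modules.pullback (gb k K X)).obj E) d ℓ := by
  haveI := BC.flat_gb (X := X) (k := k) K
  haveI := BC.surjective_gb (X := X) (k := k) K
  haveI : IsLocallyNoetherian X := Basic.locallyNoetherian (k := k)
  haveI : IsLocallyNoetherian (Xb k K X) := Basic.locallyNoetherian (k := K)
  refine ⟨isCoh_pullback _ hE.1, fun h => hE.2.1 (BC.isZero_of_pullback (gb k K X) h),
    isPure_xb hL hE.1 hE.2.2.1 K, fun F ι hι hF pF pE' hpF hpE' _ _ => ?_⟩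
  haveI := hι
  obtain ⟨pE, hpE⟩ := exists_hilb (k := k) hL.1 hE.1 (dim_le_of_isPure hE.1 hE.2.2.1)
  rw [isHilbPoly_unique hpE' (BC.isHilbPoly_pullback (gb k K X) (IsPullback.of_hasPullback _ _) hL.1 hE.1 hpE)]
  exact (bound_ext hL hE.1 hE.2.2.1 hpE ι hF hpF).2 hE

variable {K : Type u} [Field K] [Algebra k K] {Y : Scheme.{u}} [Y.Over (Spec (CommRingCat.of K))] (g : Y ⟶ X)
  (sq : IsPullback g (Y ↘ Spec (CommRingCat.of K)) (X ↘ Spec (CommRingCat.of k))
    (Spec.map (CommRingCat.ofHom (algebraMap k K))))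

include sq in
theorem fp_of_sq : Flat g ∧ Surjective g ∧ IsAffineHom g ∧ IsProper (Y ↘ Spec (CommRingCat.of K)) := by
  haveI := BC.flat_specMap (k := k) K
  haveI := BC.surjective_specMap (k := k) K
  exact ⟨MorphismProperty.of_isPullback (P := @Flat) sq.flip inferInstance,
    MorphismProperty.of_isPullback (P := @Surjective) sq.flip inferInstance,
    MorphismProperty.of_isPullback (P := @IsAffineHom) sq.flip inferInstance,
    MorphismProperty.of_isPullback (P := @IsProper) sq inferInstance⟩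

include sq in
/-- Purity descends along extensions of the ground field. -/
theorem isPure_of_bc (hL : CohB1.IsAmple L) (hp : _root_.ShStab.IsPure Y ((Scheme.Modules.pullback g).obj E) d) :
    _root_.ShStab.IsPure X E d := by
  obtain ⟨_, _, _, _⟩ := fp_of_sq g sq
  haveI : IsLocallyNoetherian X := Basic.locallyNoetherian (k := k)
  haveI : IsLocallyNoetherian Y := Basic.locallyNoetherian (k := K)
  intro F ι hι hF hF0
  haveI := hι
  haveI := BC.mono_pullback g ι
  obtain ⟨N, hN⟩ := exists_dim_bound k X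
  obtain ⟨e, -, he⟩ := exists_nat_dim hF0 ((Topology.IsInducing.subtypeVal.topologicalKrullDim_le).trans hN)
  obtain ⟨pF, hpF⟩ := exists_hilb (k := k) hL.1 hF he.le
  have hFY := isCoh_pullback g hF
  have hd := hp _ ((Scheme.Modules.pullback g).map ι) inferInstance hFY
    (fun h => hF0 (BC.isZero_of_pullback g h))
  have h1 := (natDegree_eq_and_coeff_pos hL hF he hpF).1
  have h2 := (natDegree_eq_and_coeff_pos (Groth.L18.Ample.isAmple_pullback_of_isAffineHom g hL) hFY hd
    (BC.isHilbPoly_pullback g sq hL.1 hF hpF)).1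
  rw [he, h1.symm.trans h2]

include sq in
/-- Semistability and stability descend along extensions of the ground field. -/
theorem ellX_of_bc {st : Bool} (hL : CohB1.IsAmple L) (hE : Coh.IsCoh E)
    (h : EllX st K Y ((Scheme.Modules.pullback g).obj L) ((Scheme.Modules.pullback g).obj E) d ℓ) :
    EllX st k X L E d ℓ := by
  obtain ⟨_, _, _, _⟩ := fp_of_sq g sq
  haveI : IsLocallyNoetherian X := Basic.locallyNoetherian (k := k)
  haveI : IsLocallyNoetherian Y := Basic.locallyNoetherian (k := K)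
  refine ⟨hE, fun h0 => h.2.1 ((Scheme.Modules.pullback g).map_isZero h0), isPure_of_bc g sq hL h.2.2.1,
    fun F ι hι hF pF pE hpF hpE h1 h2 => ?_⟩
  haveI := hι
  haveI := BC.mono_pullback g ι
  exact h.2.2.2 _ ((Scheme.Modules.pullback g).map ι) inferInstance (isCoh_pullback g hF) pF pE
    (BC.isHilbPoly_pullback g sq hL.1 hF hpF) (BC.isHilbPoly_pullback g sq hL.1 hE hpE) h1 h2

include sq in
theorem exists_iso_xb : ∃ u : Xb k K X ⟶ Y, u ≫ g = gb k K X ∧
    IsPullback u (Xb k K X ↘ Spec (CommRingCat.of K)) (Y ↘ Spec (CommRingCat.of K))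
      (Spec.map (CommRingCat.ofHom (algebraMap K K))) := by
  refine ⟨sq.isoPullback.inv, sq.isoPullback_inv_fst, ?_⟩
  haveI : IsIso (Spec.map (CommRingCat.ofHom (algebraMap K K))) := by
    rw [show CommRingCat.ofHom (algebraMap K K) = 𝟙 (CommRingCat.of K) from rfl, Spec.map_id]
    infer_instance
  refine IsPullback.of_horiz_isIso ⟨?_⟩
  rw [show CommRingCat.ofHom (algebraMap K K) = 𝟙 (CommRingCat.of K) from rfl, Spec.map_id, Category.comp_id]
  exact sq.isoPullback_inv_snd

include sq in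
/-- Purity passes to any base change to a field extension. -/
theorem isPure_bc (hL : CohB1.IsAmple L) (hE : Coh.IsCoh E) (hp : _root_.ShStab.IsPure X E d) :
    _root_.ShStab.IsPure Y ((Scheme.Modules.pullback g).obj E) d := by
  obtain ⟨_, _, _, _⟩ := fp_of_sq g sq
  haveI : IsLocallyNoetherian X := Basic.locallyNoetherian (k := k)
  haveI : IsLocallyNoetherian Y := Basic.locallyNoetherian (k := K)
  obtain ⟨u, hu, sq'⟩ := exists_iso_xb g sq
  refine isPure_of_bc (k := K) (K := K) u sq' (Groth.L18.Ample.isAmple_pullback_of_isAffineHom g hL) ?_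
  exact isPure_congr ((Scheme.Modules.pullbackCongr hu.symm).app E ≪≫
    ((Scheme.Modules.pullbackComp u g).app E).symm) (isPure_xb hL hE hp K)

include sq in
/-- Semistability passes to any base change to a field extension. -/
theorem ellX_bc (hL : CohB1.IsAmple L) (hE : EllX false k X L E d ℓ) :
    EllX false K Y ((Scheme.Modules.pullback g).obj L) ((Scheme.Modules.pullback g).obj E) d ℓ := by
  obtain ⟨_, _, _, _⟩ := fp_of_sq g sq
  haveI : IsLocallyNoetherian X := Basic.locallyNoetherian (k := k)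
  haveI : IsLocallyNoetherian Y := Basic.locallyNoetherian (k := K)
  obtain ⟨u, hu, sq'⟩ := exists_iso_xb g sq
  refine ellX_of_bc (k := K) (K := K) u sq' (Groth.L18.Ample.isAmple_pullback_of_isAffineHom g hL)
    (isCoh_pullback g hE.1) ?_
  exact ellX_congr ((Scheme.Modules.pullbackCongr hu.symm).app L ≪≫ ((Scheme.Modules.pullbackComp u g).app L).symm)
    ((Scheme.Modules.pullbackCongr hu.symm).app E ≪≫ ((Scheme.Modules.pullbackComp u g).app E).symm)
    (ellX_xb hL hE K)

end Field

end Groth.L11.Lemma179
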