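import Groth.Agent.L11.Lemma179.Open
import Groth.Agent.L03.ShStab.Trunc
import Groth.Agent.L11.HN.Main

/-!
# The comparisons of reduced polynomials and slopes, over all integral twists
-/

set_option autoImplicit false
set_option linter.style.haveILetI false
set_option linter.unusedSectionVars false
set_option backward.isDefEq.respectTransparency false
set_option backward.isDefEq.respectTransparency.types false

universe u

open CategoryTheory CategoryTheory.Limits AlgebraicGeometry Polynomial StabCat TopologicalSpace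

noncomputable section

namespace Groth.L11.Lemma179

open Groth.L03.ShStab Groth.L03.ShStab.Basic Groth.L03.Euler Groth.L02.Quot

theorem topPart_one_sub {d : ℕ} (P Q : ℚ[X]) :
    alpha d P • topPart 1 d Q - alpha d Q • topPart 1 d P =
      monomial (d - 1) (alpha d P * Q.coeff (d - 1) - alpha d Q * P.coeff (d - 1)) := by
  ext i
  simp only [coeff_sub, coeff_smul, PolyOrd.coeff_topPart, coeff_monomial, smul_eq_mul]
  by_cases h1 : d - 1 = i
  · subst h1; simp
  by_cases h2 : i = d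
  · subst h2; simp [h1, alpha]; ring
  rw [if_neg h1, if_neg (by omega), if_neg (by omega)]
  ring

theorem redLE_topPart_one {d : ℕ} {P Q : ℚ[X]} (hP : 0 < alpha d P) (hQ : 0 < alpha d Q) :
    StabCat.RedLE d (topPart 1 d P) (topPart 1 d Q) ↔ hatSlope d P ≤ hatSlope d Q := by
  have hf : (0 : ℚ) < ((d - 1).factorial : ℚ) := Nat.cast_pos.2 (Nat.factorial_pos _)
  rw [StabCat.RedLE, PolyOrd.alpha_topPart, PolyOrd.alpha_topPart, PolyOrd.polyLE_iff, topPart_one_sub,
    leadingCoeff_monomial, hatSlope, hatSlope, div_le_div_iff₀ hP hQ, sub_nonneg,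
    show alpha (d - 1) P = ((d - 1).factorial : ℚ) * P.coeff (d - 1) from rfl,
    show alpha (d - 1) Q = ((d - 1).factorial : ℚ) * Q.coeff (d - 1) from rfl]
  constructor <;> intro h <;> nlinarith

theorem redLT_topPart_one {d : ℕ} {P Q : ℚ[X]} (hP : 0 < alpha d P) (hQ : 0 < alpha d Q) :
    StabCat.RedLT d (topPart 1 d P) (topPart 1 d Q) ↔ hatSlope d P < hatSlope d Q := by
  rw [PolyOrd.redLT_iff_not_redLE, redLE_topPart_one hQ hP, not_le]

section Field

variable {k : Type u} [Field k] {X : Scheme.{u}} [X.Over (Spec (CommRingCat.of k))]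
  [IsProper (X ↘ Spec (CommRingCat.of k))] {L : X.Modules} {d : ℕ} {E : X.Modules} {HPZ : X.Modules → ℚ[X] → Prop}
  (hL : CohB1.IsAmple L) (hE : Coh.IsCoh E) (h0 : ¬ IsZero E) (hp : _root_.ShStab.IsPure X E d)
  (hZ : ∀ (G : X.Modules), Coh.IsCoh G → ∀ P, HPZ G P ↔ _root_.ShStab.IsHilbPoly k X L G P)

include hL hE h0 hp hZ in
theorem pSemistable_iff :
    (∀ (G : X.Modules) (ι : G ⟶ E), Mono ι → Coh.IsCoh G → ¬ IsZero G → ∀ φ ψ : ℚ[X], HPZ E φ → HPZ G ψ →
      W4c2simpsonmod1.RedLE d ψ φ) ↔ EllX false k X L E d d := by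
  constructor
  · intro h
    refine Trunc.isEllSemistable_of_isSemistable hL d ⟨hE, h0, hp, fun F ι hι hF hF0 hi pF pE hpF hpE => ?_⟩
    haveI := hι
    exact (Groth.L11.HN.redLE_iff (alpha_pos_sub hL hp ι hF hF0 hpF) (alpha_pos_sub hL hp (𝟙 E) hE h0 hpE)).1
      (h F ι hι hF hF0 pE pF ((hZ E hE pE).2 hpE) ((hZ F hF pF).2 hpF))
  · intro hell G ι hι hG hG0 φ ψ hφ hψ
    haveI := hι
    rw [hZ E hE] at hφ
    rw [hZ G hG] at hψ
    refine (Groth.L11.HN.redLE_iff (alpha_pos_sub hL hp ι hG hG0 hψ) (alpha_pos_sub hL hp (𝟙 E) hE h0 hφ)).2 ?_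
    by_cases hi : IsIso ι
    · rw [isHilbPoly_unique (isHilbPoly_iso (asIso ι) hψ) hφ]
      exact PolyOrd.polyLE_refl _
    · exact (Trunc.isSemistable_of_isEllSemistable_self hL hell).2.2.2 G ι hι hG hG0 hi ψ φ hψ hφ

include hL hE h0 hp hZ in
theorem pStable_iff :
    (∀ (G : X.Modules) (ι : G ⟶ E), Mono ι → Coh.IsCoh G → ¬ IsZero G → ¬ IsIso ι → ∀ φ ψ : ℚ[X], HPZ E φ → HPZ G ψ →
      W4c2simpsonmod1.RedLT d ψ φ) ↔ EllX true k X L E d d := by
  constructor
  · intro h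
    refine Trunc.isEllStable_self_of_isStable hL ⟨hE, h0, hp, fun F ι hι hF hF0 hi pF pE hpF hpE => ?_⟩
    haveI := hι
    exact (Groth.L11.HN.redLT_iff (alpha_pos_sub hL hp ι hF hF0 hpF) (alpha_pos_sub hL hp (𝟙 E) hE h0 hpE)).1
      (h F ι hι hF hF0 hi pE pF ((hZ E hE pE).2 hpE) ((hZ F hF pF).2 hpF))
  · intro hell G ι hι hG hG0 hi φ ψ hφ hψ
    haveI := hι
    rw [hZ E hE] at hφ
    rw [hZ G hG] at hψ
    exact (Groth.L11.HN.redLT_iff (alpha_pos_sub hL hp ι hG hG0 hψ) (alpha_pos_sub hL hp (𝟙 E) hE h0 hφ)).2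
      ((Trunc.isStable_of_isEllStable_self hL hell).2.2.2 G ι hι hG hG0 hi ψ φ hψ hφ)

include hL in
theorem not_isZero_of_alpha_pos {F : X.Modules} {p : ℚ[X]} (hp : _root_.ShStab.IsHilbPoly k X L F p)
    (h : 0 < alpha d p) : ¬ IsZero F := fun hF => by
  rw [isHilbPoly_unique hp (isHilbPoly_zero hL.1 hF)] at h; simp [alpha] at h

include hL hE h0 hp hZ in
theorem slopeSemistable_iff :
    (∀ (G : X.Modules) (ι : G ⟶ E), Mono ι → Coh.IsCoh G → ¬ IsZero G → ∀ φ ψ : ℚ[X], HPZ E φ → HPZ G ψ →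
      W4c2simpsonmod1.slopeOf d ψ ≤ W4c2simpsonmod1.slopeOf d φ) ↔ EllX false k X L E d 1 := by
  constructor
  · intro h
    refine ⟨hE, h0, hp, fun F ι hι hF pF pE hpF hpE h1 h2 => ?_⟩
    exact (redLE_topPart_one h1 (h1.trans h2)).2
      (h F ι hι hF (not_isZero_of_alpha_pos hL hpF h1) pE pF ((hZ E hE pE).2 hpE) ((hZ F hF pF).2 hpF))
  · intro hell G ι hι hG hG0 φ ψ hφ hψ
    haveI := hι
    rw [hZ E hE] at hφ
    rw [hZ G hG] at hψ
    have hαG := alpha_pos_sub hL hp ι hG hG0 hψ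
    have hαE := alpha_pos_sub hL hp (𝟙 E) hE h0 hφ
    refine (redLE_topPart_one hαG hαE).1 ?_
    by_cases hi : IsIso ι
    · rw [isHilbPoly_unique (isHilbPoly_iso (asIso ι) hψ) hφ]
      exact PolyOrd.polyLE_refl _
    · rcases Trunc.redLT_of_alpha_eq hL hE hp ι hG hi hG0 hψ hφ with ⟨-, h⟩ | ⟨h1, h2⟩
      · have dE := Basic.dim_le_of_isPure hE hp
        exact Trunc.redLE_topPart (natDegree_le hL.1 hG (Basic.dim_sub_le ι dE) hψ) (natDegree_le hL.1 hE dE hφ) 1
          (PolyOrd.polyLE_of_lt h)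
      · exact hell.2.2.2 G ι hι hG ψ φ hψ hφ h1 h2

include hL hE h0 hp hZ in
theorem slopeStable_iff :
    (∀ (G : X.Modules) (ι : G ⟶ E), Mono ι → Coh.IsCoh G → ¬ IsZero G → ∀ φ ψ : ℚ[X], HPZ E φ → HPZ G ψ →
      W4c2simpsonmod1.rankOf d ψ < W4c2simpsonmod1.rankOf d φ →
      W4c2simpsonmod1.slopeOf d ψ < W4c2simpsonmod1.slopeOf d φ) ↔ EllX true k X L E d 1 := by
  constructor
  · intro h
    refine ⟨hE, h0, hp, fun F ι hι hF pF pE hpF hpE h1 h2 => ?_⟩
    exact (redLT_topPart_one h1 (h1.trans h2)).2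
      (h F ι hι hF (not_isZero_of_alpha_pos hL hpF h1) pE pF ((hZ E hE pE).2 hpE) ((hZ F hF pF).2 hpF) h2)
  · intro hell G ι hι hG hG0 φ ψ hφ hψ hlt
    haveI := hι
    rw [hZ E hE] at hφ
    rw [hZ G hG] at hψ
    have hαG := alpha_pos_sub hL hp ι hG hG0 hψ
    exact (redLT_topPart_one hαG (hαG.trans hlt)).1 (hell.2.2.2 G ι hι hG ψ φ hψ hφ hαG hlt)

end Field

section Fibre

variable {k : Type u} [Field k] {n : ℕ} {S X : Scheme.{u}} (i : X ⟶ CohB1.ProjSpaceOver n S) [IsClosedImmersion i]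
  {Y : Scheme.{u}} [Y.Over (Spec (CommRingCat.of k))] {t : Spec (CommRingCat.of k) ⟶ S}
  {g : Y ⟶ X} (pb : IsPullback g (Y ↘ Spec (CommRingCat.of k)) (i ≫ CohB1.ProjSpaceOver.toBase n S) t)

/-- All integral twists have Euler characteristic given by the polynomial. -/
def ZPoly (k : Type u) [Field k] {n : ℕ} {S X Y : Scheme.{u}} [Y.Over (Spec (CommRingCat.of k))]
    (i : X ⟶ CohB1.ProjSpaceOver n S) (g : Y ⟶ X) (G : Y.Modules) (P : ℚ[X]) : Prop :=
  ∀ m : ℤ, (Curv2.euler k Y (CohB1.tensorMod G ((Scheme.Modules.pullback (g ≫ i)).obj (Twist.twistOver n S m))) : ℚ) =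
    P.eval (m : ℚ)

include pb in
/-- Polynomials over all integral twists are Hilbert polynomials. -/
theorem zPoly_iff {G : Y.Modules} (hG : Coh.IsCoh G) (P : ℚ[X]) :
    ZPoly k i g G P ↔ _root_.ShStab.IsHilbPoly k Y ((Scheme.Modules.pullback g).obj (OX i 1)) G P := by
  obtain ⟨ik, hc, hs, hm⟩ := exists_fibre_data i pb
  haveI := isProper_fibre i pb
  have e : ∀ m : ℤ, (Curv2.euler k Y (Pic13.twistOn k ik G m) : ℚ) =
      (Curv2.euler k Y (CohB1.tensorMod G ((Scheme.Modules.pullback (g ≫ i)).obj (Twist.twistOver n S m))) : ℚ) :=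
    fun m => congrArg Int.cast (Groth.L03.Euler.euler_iso (Groth.L00.Tensor.tensorIso (Iso.refl G)
      ((hm m).some.symm ≪≫ (Scheme.Modules.pullbackComp g i).app _)))
  obtain ⟨φ, hφ⟩ := Groth.L11.NumOrth.exists_poly_twist k ik hG
  have hHP : _root_.ShStab.IsHilbPoly k Y ((Scheme.Modules.pullback g).obj (OX i 1)) G φ := fun l => by
    obtain ⟨e'⟩ := Groth.L22.Reg.nonempty_twist_twistOn ik _ (hm 1) G l
    rw [Groth.L03.Euler.euler_iso e', hφ (l : ℤ)]
    simp
  have hZφ : ZPoly k i g G φ := fun m => (e m).symm.trans (hφ m)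
  refine ⟨fun h => ?_, fun h => ?_⟩
  · have hP : _root_.ShStab.IsHilbPoly k Y ((Scheme.Modules.pullback g).obj (OX i 1)) G P := fun l => by
      rw [hHP l]
      simpa using ((hZφ (l : ℤ)).symm.trans (h (l : ℤ)))
    exact hP
  · rwa [← isHilbPoly_unique hHP h]

end Fibre

/-- A noetherian base from a scheme of finite type over a field. -/
theorem isNoetherian_of_ft {k : Type u} [Field k] {S : Scheme.{u}} (sS : S ⟶ Spec (CommRingCat.of k))
    [LocallyOfFiniteType sS] [QuasiCompact sS] : AlgebraicGeometry.IsNoetherian S := by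
  haveI : IsLocallyNoetherian S := LocallyOfFiniteType.isLocallyNoetherian sS
  haveI : CompactSpace S := QuasiCompact.compactSpace_of_compactSpace sS
  exact {}

theorem range_subset_iff {K : Type u} [Field K] {S : Scheme.{u}} (t : Spec (CommRingCat.of K) ⟶ S) (U : Set S) :
    Set.range t.base ⊆ U ↔ t (IsLocalRing.closedPoint K) ∈ U := by
  refine ⟨fun h => h ⟨_, rfl⟩, ?_⟩
  rintro h _ ⟨p, rfl⟩
  rw [show p = IsLocalRing.closedPoint K from @Subsingleton.elim (PrimeSpectrum K) _ _ _]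
  exact h

variable {k : Type u} [Field k] [IsAlgClosed k]

/-- The open locus seen at rational points, for a fibrewise condition agreeing with (semi)stability. -/
theorem exists_opens_locus {S : Scheme.{u}} (sS : S ⟶ Spec (CommRingCat.of k)) [LocallyOfFiniteType sS]
    [QuasiCompact sS] {n : ℕ} {X : Scheme.{u}} (i : X ⟶ CohB1.ProjSpaceOver n S) [IsClosedImmersion i]
    (st : Bool) (d ℓ : ℕ) (hℓ : 1 ≤ d → 1 ≤ ℓ) (E : X.Modules) (hE : Coh.IsCoh E)
    (hflat : FlatMod.IsFlatOver (i ≫ CohB1.ProjSpaceOver.toBase n S) E)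
    (hpure : ∀ (t : Spec (CommRingCat.of k) ⟶ S), t ≫ sS = 𝟙 (Spec (CommRingCat.of k)) →
      topologicalKrullDim ↥(CohB1.support ((Scheme.Modules.pullback (pullback.fst (i ≫ CohB1.ProjSpaceOver.toBase n S) t)).obj E)) = (d : WithBot ℕ∞) ∧
      ∀ (G : (pullback (i ≫ CohB1.ProjSpaceOver.toBase n S) t).Modules) (ι : G ⟶ (Scheme.Modules.pullback (pullback.fst (i ≫ CohB1.ProjSpaceOver.toBase n S) t)).obj E), Mono ι → Coh.IsCoh G → ¬ IsZero G → topologicalKrullDim ↥(CohB1.support G) = (d : WithBot ℕ∞))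
    (C : ∀ (Y : Scheme.{u}) [Y.Over (Spec (CommRingCat.of k))], (Y ⟶ X) → Y.Modules → Prop)
    (hC : ∀ (Y : Scheme.{u}) [Y.Over (Spec (CommRingCat.of k))] (g : Y ⟶ X) (t : Spec (CommRingCat.of k) ⟶ S),
      IsPullback g (Y ↘ Spec (CommRingCat.of k)) (i ≫ CohB1.ProjSpaceOver.toBase n S) t →
      ∀ [IsProper (Y ↘ Spec (CommRingCat.of k))], CohB1.IsAmple ((Scheme.Modules.pullback g).obj (OX i 1)) →
      ∀ M : Y.Modules, Coh.IsCoh M → ¬ IsZero M → _root_.ShStab.IsPure Y M d →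
        (C Y g M ↔ EllX st k Y ((Scheme.Modules.pullback g).obj (OX i 1)) M d ℓ)) :
    ∃ U : S.Opens, ∀ (t : Spec (CommRingCat.of k) ⟶ S), t ≫ sS = 𝟙 (Spec (CommRingCat.of k)) →
      letI : (pullback (i ≫ CohB1.ProjSpaceOver.toBase n S) t).Over (Spec (CommRingCat.of k)) := ⟨pullback.snd _ t⟩
      (C (pullback (i ≫ CohB1.ProjSpaceOver.toBase n S) t) (pullback.fst _ t)
          ((Scheme.Modules.pullback (pullback.fst (i ≫ CohB1.ProjSpaceOver.toBase n S) t)).obj E) ↔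
        Set.range t.base ⊆ (U : Set S)) := by
  haveI := isNoetherian_of_ft sS
  obtain ⟨W, hW, hiff⟩ := exists_open_locus i rfl st d ℓ hℓ E hE hflat
  refine ⟨⟨W, hW⟩, fun t ht => ?_⟩
  letI : (pullback (i ≫ CohB1.ProjSpaceOver.toBase n S) t).Over (Spec (CommRingCat.of k)) := ⟨pullback.snd _ t⟩
  have pb : IsPullback (pullback.fst (i ≫ CohB1.ProjSpaceOver.toBase n S) t)
      (pullback (i ≫ CohB1.ProjSpaceOver.toBase n S) t ↘ Spec (CommRingCat.of k))
      (i ≫ CohB1.ProjSpaceOver.toBase n S) t := IsPullback.of_hasPullback _ _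
  haveI := isProper_fibre i pb
  obtain ⟨hd, hsub⟩ := hpure t ht
  have h0 : ¬ IsZero ((Scheme.Modules.pullback (pullback.fst (i ≫ CohB1.ProjSpaceOver.toBase n S) t)).obj E) :=
    fun h => by
      rw [topologicalKrullDim_of_empty ((Groth.L21.Mod.isZero_iff_support_eq_empty _).1 h)] at hd
      exact WithBot.bot_ne_natCast d hd
  rw [hC _ _ t pb (isAmple_fibre i pb) _ (Groth.L19.LimMod.isCoh_pullback' _ hE) h0 hsub,
    hiff k _ t _ pb, range_subset_iff]
  rfl

end Groth.L11.Lemma179
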